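import Cfsg.Agent.MaxSub.HermStabStd
import Cfsg.Agent.Lib.LinearGroup.SingerElusive
import Cfsg.Agent.Lib.Unitary.Count
import Cfsg.Agent.SL3Geo34.Std

/-!
S5777 (4): generation of a cubic field subalgebra by a non-scalar, the eigenvalues of a Singer element, and
transvections (helper60, for helper98).
-/

set_option autoImplicit false
set_option linter.unusedSectionVars false

namespace Cfsg.Agent.SU3Geo98.Singer.Glue

open Matrix Cfsg.Agent.MaxSub
open scoped Classical

variable {F : Type*} [Field F] [Fintype F]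

/-- A transvection of a unitary group is of the form `ut f v c`. -/
theorem exists_ut_of_transvec {σ : F ≃+* F} {f : (Fin 3 → F) → (Fin 3 → F) → F}
    (hf : Geo.IsUnitaryForm σ f) {g : GL (Fin 3) F} (hg : g ∈ isom f) (ht : SL3Geo34.IsTransvec g) :
    ∃ v c, v ≠ 0 ∧ f v v = 0 ∧ c ≠ 0 ∧ c + σ c = 0 ∧ g = ut f v c := by
  obtain ⟨hg1, hN⟩ := ht
  set N : Matrix (Fin 3) (Fin 3) F := (g : Matrix (Fin 3) (Fin 3) F) - 1 with hNdef
  set L := Matrix.toLin' N with hL
  have hLL : ∀ x, L (L x) = 0 := fun x => by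
    rw [hL, Matrix.toLin'_apply, Matrix.toLin'_apply, Matrix.mulVec_mulVec, hN, Matrix.zero_mulVec]
  have hgx : ∀ x, (g : Matrix (Fin 3) (Fin 3) F) *ᵥ x = x + L x := fun x => by
    rw [hL, Matrix.toLin'_apply, hNdef, Matrix.sub_mulVec, Matrix.one_mulVec]; abel
  have hne : L ≠ 0 := fun h => hg1 (gl_ext fun x => by rw [hgx, h]; simp)
  obtain ⟨x₀, hx₀⟩ : ∃ x, L x ≠ 0 := by
    by_contra! h
    exact hne (LinearMap.ext fun x => by simpa using h x)
  have hrank : Module.finrank F (LinearMap.range L) = 1 := by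
    have h1 := LinearMap.finrank_range_add_finrank_ker L
    have h2 : LinearMap.range L ≤ LinearMap.ker L := by
      rintro _ ⟨x, rfl⟩; exact hLL x
    have h3 := Submodule.finrank_mono h2
    rw [Module.finrank_fin_fun] at h1
    have h4 : 0 < Module.finrank F (LinearMap.range L) := by
      rw [Module.finrank_pos_iff_exists_ne_zero]
      exact ⟨⟨L x₀, LinearMap.mem_range_self L x₀⟩, fun h => hx₀ (congrArg Subtype.val h)⟩
    omega
  set v := L x₀ with hv
  have hφ : ∀ x, ∃ a : F, L x = a • v := fun x => by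
    obtain ⟨a, ha⟩ := (finrank_eq_one_iff_of_nonzero' (⟨v, LinearMap.mem_range_self L x₀⟩ : LinearMap.range L)
      fun h => hx₀ (congrArg Subtype.val h)).1 hrank ⟨L x, LinearMap.mem_range_self L x⟩
    exact ⟨a, (congrArg Subtype.val ha).symm⟩
  choose φ hφ using hφ
  have hrel : ∀ x y, φ x * f v y + σ (φ y) * f x v + φ x * σ (φ y) * f v v = 0 := fun x y => by
    have h := mem_isom.mp hg x y
    rw [hgx, hgx, hφ x, hφ y, hf.add_left, hf.smul_left, hadd_right hf, hadd_right hf,
      hsmul_right hf, hsmul_right hf] at h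
    linear_combination h
  have hLv : L v = 0 := hLL x₀
  have hφv : φ v = 0 := by
    have := hφ v
    rw [hLv] at this
    exact (smul_eq_zero.1 this.symm).resolve_right hx₀
  have hφ0 : φ x₀ ≠ 0 := fun h => hx₀ (by rw [hv, hφ x₀, h, zero_smul])
  have hvv : f v v = 0 := by
    have := hrel x₀ v
    rw [hφv, map_zero, zero_mul, mul_zero, zero_mul, add_zero, add_zero] at this
    exact (mul_eq_zero.1 this).resolve_left hφ0
  obtain ⟨y₀, hy₀⟩ := (hf.nondegenerate v hx₀).2
  set y := (σ (f v y₀)⁻¹) • y₀ with hy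
  have hvy : f v y = 1 := by
    rw [hy, hsmul_right hf, hf.involutive, inv_mul_cancel₀ hy₀]
  have hc : ∀ x, φ x = -σ (φ y) * f x v := fun x => by
    have := hrel x y
    rw [hvy, hvv] at this
    linear_combination this
  refine ⟨v, -σ (φ y), hx₀, hvv, fun h => hφ0 (by rw [hc, h, zero_mul]), ?_,
    gl_ext fun x => by rw [ut_mulVec hf hvv, hgx, hφ, hc]⟩
  have h1 := hc y
  rw [hf.herm y v, hvy, map_one, mul_one] at h1
  rw [map_neg, hf.involutive]
  linear_combination -h1

variable {K : Subalgebra F (Matrix (Fin 3) (Fin 3) F)}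

local instance : Fact (Nat.Prime 3) := ⟨Nat.prime_three⟩

/-- A non-scalar element generates the field. -/
theorem le_of_nonscalar (hK : Geo.IsFieldSubalgebra 3 K) {x : Matrix (Fin 3) (Fin 3) F} (hx : x ∈ K)
    (hns : ∀ z : F, x ≠ z • 1) {P : Subalgebra F (Matrix (Fin 3) (Fin 3) F)} (hxP : x ∈ P) : K ≤ P := by
  let : Field K := (SingerElusive.isField hK).toField
  have : IsSimpleOrder (Subalgebra F K) :=
    Subalgebra.isSimpleOrder_of_finrank_prime F K (by rw [hK.finrank_eq]; exact Nat.prime_three)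
  rcases eq_bot_or_eq_top (P.comap K.val) with h | h
  · have hm : (⟨x, hx⟩ : K) ∈ P.comap K.val := hxP
    rw [h] at hm
    obtain ⟨t, ht⟩ := Algebra.mem_bot.1 hm
    refine absurd ?_ (hns t)
    have := congrArg Subtype.val ht
    rw [← Algebra.algebraMap_eq_smul_one]
    exact this.symm
  · intro k hk
    have : (⟨k, hk⟩ : K) ∈ P.comap K.val := h ▸ Algebra.mem_top
    exact this

/-- An element conjugating a non-scalar of the field into the field normalises it. -/
theorem mem_normalizer_of_conj (hK : Geo.IsFieldSubalgebra 3 K) {x : Matrix (Fin 3) (Fin 3) F}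
    (hx : x ∈ K) (hns : ∀ z : F, x ≠ z • 1) {y : GL (Fin 3) F}
    (h : (y : Matrix (Fin 3) (Fin 3) F) * x * ((y⁻¹ : GL (Fin 3) F) : Matrix (Fin 3) (Fin 3) F) ∈ K) :
    y ∈ Geo.subalgebraNormalizer K := by
  let c : Matrix (Fin 3) (Fin 3) F →ₐ[F] Matrix (Fin 3) (Fin 3) F :=
    { toFun := fun m => (y : Matrix (Fin 3) (Fin 3) F) * m *
        ((y⁻¹ : GL (Fin 3) F) : Matrix (Fin 3) (Fin 3) F)
      map_one' := by rw [mul_one, Units.mul_inv]
      map_mul' := fun a b => by simp only [mul_assoc, Units.inv_mul_cancel_left]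
      map_zero' := by simp
      map_add' := fun a b => by rw [mul_add, add_mul]
      commutes' := fun r => by
        rw [Algebra.algebraMap_eq_smul_one, Matrix.mul_smul, Matrix.smul_mul, mul_one, Units.mul_inv] }
  have hle : K ≤ K.comap c := le_of_nonscalar hK hx hns h
  intro k
  refine ⟨fun hk => hle hk, fun hk => ?_⟩
  let L : K →ₗ[F] K := (c.toLinearMap.domRestrict K.toSubmodule).codRestrict K.toSubmodule
    fun a => hle a.2
  have hL : Function.Injective L := fun a b e => Subtype.ext (by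
    have e' : c a = c b := congrArg Subtype.val e
    have := congrArg (fun m => ((y⁻¹ : GL (Fin 3) F) : Matrix (Fin 3) (Fin 3) F) * m *
      (y : Matrix (Fin 3) (Fin 3) F)) e'
    simpa [c, mul_assoc] using this)
  obtain ⟨a, ha⟩ := LinearMap.injective_iff_surjective.mp hL ⟨_, hk⟩
  have ha' : c a = (y : Matrix (Fin 3) (Fin 3) F) * k *
      ((y⁻¹ : GL (Fin 3) F) : Matrix (Fin 3) (Fin 3) F) := congrArg Subtype.val ha
  have := congrArg (fun m => ((y⁻¹ : GL (Fin 3) F) : Matrix (Fin 3) (Fin 3) F) * m *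
    (y : Matrix (Fin 3) (Fin 3) F)) ha'
  simp [c, mul_assoc] at this
  exact this ▸ a.2

/-- An element commuting with a non-scalar of the field lies in it. -/
theorem mem_of_commute (hK : Geo.IsFieldSubalgebra 3 K) {x : Matrix (Fin 3) (Fin 3) F}
    (hx : x ∈ K) (hns : ∀ z : F, x ≠ z • 1) {y : Matrix (Fin 3) (Fin 3) F} (h : y * x = x * y) :
    y ∈ K := by
  refine SingerElusive.mem_of_centralize hK fun k hk => ?_
  have : k ∈ Subalgebra.centralizer F ({y} : Set (Matrix (Fin 3) (Fin 3) F)) :=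
    le_of_nonscalar hK hx hns (Subalgebra.mem_centralizer_iff F |>.2 fun g hg => by
      rw [Set.mem_singleton_iff.1 hg, h]) hk
  exact (Subalgebra.mem_centralizer_iff F).1 this y rfl

/-- The six ratios of the conjugates of an element of order `q ^ 2 - q + 1` are distinct. -/
theorem ratio_of_order {E : Type*} [Field E] {a : E} {q : ℕ} (hq : 6 ≤ q)
    (ha : orderOf a = q ^ 2 - q + 1) (i j k l : Fin 3)
    (h : a ^ (q ^ 2) ^ (i : ℕ) * a ^ (q ^ 2) ^ (k : ℕ) = a ^ (q ^ 2) ^ (j : ℕ) * a ^ (q ^ 2) ^ (l : ℕ)) :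
    (i = j ∧ k = l) ∨ (i = l ∧ k = j) := by
  set N := q ^ 2 - q + 1 with hN
  have hqq : q ≤ q ^ 2 := Nat.le_self_pow two_ne_zero q
  have h6 : 6 * q ≤ q ^ 2 := by rw [sq]; exact Nat.mul_le_mul_right q hq
  have ha0 : a ≠ 0 := by
    rintro rfl
    rw [orderOf_zero] at ha
    omega
  rw [← pow_add, ← pow_add] at h
  have hmod : (q ^ 2) ^ (i : ℕ) + (q ^ 2) ^ (k : ℕ) ≡ (q ^ 2) ^ (j : ℕ) + (q ^ 2) ^ (l : ℕ) [MOD N] := by
    rw [← ha, show orderOf a = orderOf (Units.mk0 a ha0) from orderOf_units (y := Units.mk0 a ha0)]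
    exact pow_eq_pow_iff_modEq.mp (Units.ext (by simpa using h))
  rw [← ZMod.natCast_eq_natCast_iff] at hmod
  push_cast at hmod
  let e : Fin 3 → ℤ := ![1, (q : ℤ) - 1, -(q : ℤ)]
  have hq2 : ((q : ZMod N)) ^ 2 = (q : ZMod N) - 1 := by
    have : ((N : ℕ) : ZMod N) = 0 := ZMod.natCast_self N
    rw [show (N : ℕ) = q ^ 2 - q + 1 from hN, Nat.cast_add, Nat.cast_sub hqq] at this
    push_cast at this
    linear_combination this
  have he : ∀ m : Fin 3, (((q : ZMod N)) ^ 2) ^ (m : ℕ) = ((e m : ℤ) : ZMod N) := by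
    intro m
    fin_cases m <;> simp [e]
    · exact hq2
    · linear_combination ((q : ZMod N) ^ 2 + q) * hq2
  rw [he, he, he, he, ← sub_eq_zero] at hmod
  have hdvd : (N : ℤ) ∣ e i + e k - (e j + e l) := by
    rw [← ZMod.intCast_zmod_eq_zero_iff_dvd]
    push_cast
    exact hmod
  have hNZ : (N : ℤ) = (q : ℤ) ^ 2 - q + 1 := by
    rw [hN]; push_cast [Nat.cast_sub hqq]; ring
  have h6' : 6 * (q : ℤ) ≤ (q : ℤ) ^ 2 := by exact_mod_cast h6
  have hb : ∀ m, -(q : ℤ) ≤ e m ∧ e m ≤ (q : ℤ) - 1 := fun m => by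
    fin_cases m <;> simp [e] <;> omega
  have h0 : e i + e k - (e j + e l) = 0 := by
    refine Int.eq_zero_of_abs_lt_dvd hdvd ?_
    rw [abs_lt]
    have := hb i; have := hb j; have := hb k; have := hb l
    omega
  fin_cases i <;> fin_cases j <;> fin_cases k <;> fin_cases l <;> simp [e] at h0 ⊢ <;> omega

/-- The eigenvalues of a generator of the field. -/
theorem exists_lam (hK : Geo.IsFieldSubalgebra 3 K) {q : ℕ} (hF : Fintype.card F = q ^ 2) (hq : 6 ≤ q)
    {g : GL (Fin 3) F} (hgK : g.val ∈ K) (hgo : orderOf g = q ^ 2 - q + 1) :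
    ∃ lam : Fin 3 → AlgebraicClosure F,
      g.val.charpoly.map (algebraMap F (AlgebraicClosure F)) = ∏ i, (Polynomial.X - Polynomial.C (lam i)) ∧
      ∀ i j k l, lam i * lam k = lam j * lam l → (i = j ∧ k = l) ∨ (i = l ∧ k = j) := by
  let : Field K := (SingerElusive.isField hK).toField
  have : Module.Finite F K := Module.finite_of_finrank_pos (by rw [hK.finrank_eq]; norm_num)
  set E := AlgebraicClosure F
  let x : K := ⟨g.val, hgK⟩
  let j : K →ₐ[F] E := IsAlgClosed.lift
  have hjo : orderOf (j x) = q ^ 2 - q + 1 := by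
    rw [show j x = j.toRingHom.toMonoidHom x from rfl, orderOf_injective _ j.toRingHom.injective,
      ← hgo, ← orderOf_units (y := g)]
    exact (orderOf_injective K.val.toRingHom.toMonoidHom Subtype.val_injective x).symm
  have hroot : Polynomial.aeval (j x) g.val.charpoly = 0 := by
    rw [Polynomial.aeval_algHom_apply, show Polynomial.aeval x g.val.charpoly = 0 from Subtype.val_injective ?_,
      map_zero]
    rw [← Subalgebra.coe_val, ← Polynomial.aeval_algHom_apply, map_zero]
    exact Matrix.aeval_self_charpoly g.val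
  have hstep : ∀ y : E, Polynomial.aeval y g.val.charpoly = 0 →
      Polynomial.aeval (y ^ q ^ 2) g.val.charpoly = 0 := fun y hy => by
    rw [← hF, ← Polynomial.expand_aeval, FiniteField.expand_card, map_pow, hy,
      zero_pow Fintype.card_ne_zero]
  let lam : Fin 3 → E := fun i => j x ^ (q ^ 2) ^ (i : ℕ)
  have hrat : ∀ a b c d, lam a * lam c = lam b * lam d → (a = b ∧ c = d) ∨ (a = d ∧ c = b) :=
    fun a b c d h => ratio_of_order hq hjo a b c d h
  have hinj : Function.Injective lam := fun a b h =>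
    (hrat a b b b (by rw [h])).elim And.left And.left
  have hlam : ∀ i, Polynomial.aeval (lam i) g.val.charpoly = 0 := by
    have h1 := hstep _ hroot
    have h2 := hstep _ h1
    intro i
    fin_cases i
    · simpa [lam] using hroot
    · simpa [lam] using h1
    · simpa [lam, ← pow_mul, sq] using h2
  refine ⟨lam, (Polynomial.eq_of_monic_of_dvd_of_natDegree_le
    (Polynomial.monic_prod_of_monic _ _ fun i _ => Polynomial.monic_X_sub_C _)
    ((Matrix.charpoly_monic _).map _) ?_ ?_), hrat⟩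
  · refine Finset.prod_dvd_of_coprime (fun a _ b _ hab => Polynomial.pairwise_coprime_X_sub_C hinj hab)
      fun i _ => ?_
    rw [Polynomial.dvd_iff_isRoot, Polynomial.IsRoot, Polynomial.eval_map, ← Polynomial.aeval_def]
    exact hlam i
  · rw [Polynomial.natDegree_map, Matrix.charpoly_natDegree_eq_dim, Fintype.card_fin,
      Polynomial.natDegree_prod_of_monic _ _ fun i _ => Polynomial.monic_X_sub_C _]
    simp

/-- The order of `SU₃(q)` as a matrix group. -/
theorem card_su {q : ℕ} (hF : Fintype.card F = q ^ 2) :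
    (q + 1) * Nat.card ↥(GU 3 F q ⊓ Geo.specialLinear (Fin 3) F) = q ^ 3 * ((q + 1) * (q ^ 2 - 1) * (q ^ 3 + 1)) := by
  let e : ↥(GU 3 F q ⊓ Geo.specialLinear (Fin 3) F) ≃ SU 3 F q :=
    { toFun := fun g => ⟨⟨g.1.val, by simpa using congrArg Units.val (show _ = (1 : Fˣ) from g.2.2)⟩, g.2.1⟩
      invFun := fun s => ⟨Matrix.SpecialLinearGroup.toGL s.1, s.2, Units.ext (by simpa using s.1.2)⟩
      left_inv := fun g => Subtype.ext (Units.ext rfl)
      right_inv := fun s => Subtype.ext (Subtype.ext rfl) }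
  rw [Nat.card_congr e, Unitary.card_SU_mul hF (by norm_num), Unitary.card_GU hF]
  simp [Finset.prod_range_succ, show ¬ Even 1 from Nat.not_even_one]

end Cfsg.Agent.SU3Geo98.Singer.Glue
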