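import Mathlib

/-!
Class three of S5777, case of the characteristic (helper99): the arithmetic. A group with a Singer
normaliser of index `I > 1` and point stabilisers of order `s * d * e` is impossible for odd `q ≥ 7`.
-/

set_option autoImplicit false

namespace Cfsg.Agent.SU3Geo98.Singer

theorem false_of_counts {q s e m I d N : ℕ} (hq : 7 ≤ q) (hodd : Odd q) (hpp : IsPrimePow q)
    (hd : d = Nat.gcd 3 (q + 1)) (hN : d * N = q ^ 2 - q + 1) (hs : s ∣ q) (hs1 : 1 < s)
    (hes : e ∣ s - 1) (heq : e ∣ q - 1) (hn : m * N ≡ 1 [MOD s]) (hm : m ≤ d * (q + 1))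
    (hI : I ≡ 1 [MOD N]) (hI1 : 1 < I) (h3 : 3 * I = m * s * e) : False := by
  obtain ⟨k, hk⟩ : ∃ k, I = 1 + k * N := by
    obtain ⟨k, hk⟩ := (Nat.modEq_iff_dvd' hI1.le).1 hI.symm
    exact ⟨k, by rw [mul_comm, ← hk]; omega⟩
  have hk1 : 1 ≤ k := by
    rcases Nat.eq_zero_or_pos k with h | h
    · rw [hk, h, zero_mul] at hI1; omega
    · exact h
  subst hk
  have hA : d * N = q * (q - 1) + 1 := by
    rw [hN, Nat.mul_sub, mul_one, ← pow_two]
  have hq1 : q * (q - 1) + 1 = d * N := hA.symm
  have key : d * (m * s * e) = 3 * (d + k) + 3 * k * (q * (q - 1)) := by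
    rw [← h3]
    calc d * (3 * (1 + k * N)) = 3 * d + 3 * k * (d * N) := by ring
      _ = 3 * (d + k) + 3 * k * (q * (q - 1)) := by rw [hA]; ring
  have hse : s * e ∣ 3 * (d + k) := by
    have hse_q : s * e ∣ q * (q - 1) := mul_dvd_mul hs heq
    have h1 : s * e ∣ 3 * (d + k) + 3 * k * (q * (q - 1)) := key ▸ ⟨d * m, by ring⟩
    exact (Nat.dvd_add_left (hse_q.mul_left _)).1 h1
  have hle : s * e ≤ 3 * (d + k) := Nat.le_of_dvd (by omega) hse
  have hlt : k * N < m * (d + k) := by
    have : 3 * (k * N) < 3 * (m * (d + k)) := by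
      calc 3 * (k * N) < 3 * (1 + k * N) := by omega
        _ = m * (s * e) := by rw [h3]; ring
        _ ≤ m * (3 * (d + k)) := Nat.mul_le_mul_left _ hle
        _ = 3 * (m * (d + k)) := by ring
    omega
  have hNlt : N < d * (q + 1) * (d + 1) := by
    have : k * N < k * (d * (q + 1) * (d + 1)) := by
      calc k * N < m * (d + k) := hlt
        _ ≤ d * (q + 1) * (d + k) := Nat.mul_le_mul_right _ hm
        _ ≤ d * (q + 1) * (k * (d + 1)) := by
            refine Nat.mul_le_mul_left _ ?_
            nlinarith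
        _ = k * (d * (q + 1) * (d + 1)) := by ring
    exact Nat.lt_of_mul_lt_mul_left this
  obtain ⟨r, rfl⟩ : ∃ r, q = r + 1 := ⟨q - 1, by omega⟩
  rw [Nat.add_sub_cancel] at hA
  rcases (Nat.dvd_prime Nat.prime_three).1 (hd ▸ Nat.gcd_dvd_left 3 (r + 1 + 1)) with h1 | h3d
  · rw [h1] at hA hNlt
    nlinarith
  · have h3q : 3 ∣ r + 1 + 1 := by rw [← h3d]; exact hd ▸ Nat.gcd_dvd_right _ _
    rw [h3d] at hA hNlt hm hse hlt
    have hr : r ≤ 36 := by
      by_contra hc
      push Not at hc
      nlinarith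
    obtain ⟨w, hw⟩ := hodd
    have hcase : r = 10 ∨ r = 16 ∨ r = 22 ∨ r = 28 ∨ r = 34 := by omega
    rcases hcase with rfl | rfl | rfl | rfl | rfl
    case inr.inr.inr.inr =>
      obtain ⟨p, a, hp, ha, hpa⟩ := (isPrimePow_nat_iff _).1 hpp
      have h5 : p = 5 := by
        have : 5 ∣ p ^ a := ⟨7, by omega⟩
        exact ((Nat.prime_dvd_prime_iff_eq Nat.prime_five hp).1
          (Nat.prime_five.dvd_of_dvd_pow this)).symm
      have h7 : p = 7 := by
        have : 7 ∣ p ^ a := ⟨5, by omega⟩
        exact ((Nat.prime_dvd_prime_iff_eq (by norm_num) hp).1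
          ((show Nat.Prime 7 by norm_num).dvd_of_dvd_pow this)).symm
      omega
    all_goals
      have hsq := ((Nat.dvd_prime (by norm_num)).1 hs).resolve_left (by omega)
      subst hsq
      have hqk := (Nat.Coprime.dvd_mul_left (by norm_num)).1 ((dvd_mul_right _ e).trans hse)
      obtain ⟨c, hc⟩ := hqk
      have hc1 : 1 ≤ c := by
        rcases Nat.eq_zero_or_pos c with h | h
        · rw [h] at hc; omega
        · exact h
    · have hN' : N = 37 := by omega
      subst hN'
      have hm3 : m % 11 = 3 := by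
        have h := hn
        rw [Nat.ModEq] at h
        omega
      have he : e = 1 ∨ e = 2 ∨ e = 5 ∨ e = 10 := by
        have h1 := Nat.le_of_dvd (by norm_num) heq
        have : e ≠ 0 := by rintro rfl; simp at heq
        interval_cases e <;> omega
      rcases he with rfl | rfl | rfl | rfl <;> omega
    all_goals
      have hN' : N = _ := Nat.eq_div_of_mul_eq_right (by norm_num) hA
      subst hN'
      norm_num at hlt
      nlinarith [Nat.mul_le_mul_right (3 + k) hm]

end Cfsg.Agent.SU3Geo98.Singer
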