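import Cfsg.Agent.SU3Geo98.Singer.CharFrame

/-!
Class three of S5777, case of the characteristic (helper99): orders and orbit of the stabiliser.
-/

set_option autoImplicit false
set_option linter.unusedSectionVars false

namespace Cfsg.Agent.SU3Geo98.Singer

open Matrix MulAction
open SU3Geo98.C6 (f0 mul3 vec3 Up up_mul e0)

variable {F : Type*} [Field F] [Fintype F]
variable {σ : F ≃+* F} {q p a : ℕ} {M : Subgroup (GL (Fin 3) F)} (C : PCtx σ q M)
include C

theorem eta_one' : eta C (1 : root C) = 0 := by simp [eta]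

theorem eta_pow (g : root C) (k : ℕ) : eta C (g ^ k) = k * eta C g := by
  induction k with
  | zero => simp [eta_one' C]
  | succ k ih => rw [pow_succ, eta_mul, ih]; push_cast; ring

theorem root_pgroup [CharP F p] : IsPGroup p (root C) := fun g =>
  ⟨1, eta_eq_zero C (by rw [eta_pow, pow_one, CharP.cast_eq_zero, zero_mul])⟩

theorem card_root_dvd [Fact p.Prime] [CharP F p] (hpa : q = p ^ a) : Nat.card (root C) ∣ q := by
  obtain ⟨j, hj⟩ := IsPGroup.iff_card.1 (root_pgroup C (p := p))
  rw [hj, hpa]
  refine Nat.pow_dvd_pow p ((Nat.pow_le_pow_iff_right (Fact.out : p.Prime).one_lt).1 ?_)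
  rw [← hj, ← hpa]
  exact card_eta_real C

theorem one_lt_card_root : 1 < Nat.card (root C) := by
  obtain ⟨t, ht⟩ := exists_one C
  rw [Finite.one_lt_card_iff_nontrivial]
  exact ⟨t, 1, fun e => by rw [e, eta_one' C] at ht; exact zero_ne_one ht⟩

/-- The multipliers divide both `|root| - 1` and `q - 1`. -/
theorem card_range_dvd : Nat.card (mu C).range ∣ Nat.card (root C) - 1 ∧
    Nat.card (mu C).range ∣ q - 1 := by
  classical
  constructor
  · set S : Set Fˣ := {x | ∃ g : root C, eta C g = x} with hS
    have hst : ∀ c ∈ (mu C).range, ∀ x ∈ S, c * x ∈ S := by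
      rintro _ ⟨k, rfl⟩ x ⟨g, hg⟩
      obtain ⟨g', hg'⟩ := mu_stable C k g
      exact ⟨g', by rw [hg', hg, Units.val_mul]⟩
    have hcard : Nat.card S = Nat.card (root C) - 1 := by
      have e : {g : root C // g ≠ 1} ≃ S := by
        refine Equiv.ofBijective
          (fun g => ⟨Units.mk0 (eta C g.1) fun h => g.2 (eta_eq_zero C h), g.1, rfl⟩) ⟨?_, ?_⟩
        · intro g h e
          exact Subtype.ext (eta_inj C (by
            simpa using congrArg (fun x : S => (x.1 : F)) e))
        · rintro ⟨x, g, hg⟩
          refine ⟨⟨g, fun h => x.ne_zero (by rw [← hg, h, eta_one' C])⟩, ?_⟩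
          exact Subtype.ext (Units.ext hg)
      have := Fintype.ofFinite (root C)
      rw [← Nat.card_congr e, Nat.card_eq_fintype_card, Fintype.card_subtype_compl,
        Fintype.card_subtype_eq, Nat.card_eq_fintype_card]
    rw [← hcard]
    exact card_dvd_of_stable _ S hst
  · have hle : (mu C).range ≤ (powMonoidHom (q - 1) : Fˣ →* Fˣ).ker := by
      rintro _ ⟨k, rfl⟩
      obtain ⟨t, ht⟩ := exists_one C
      obtain ⟨g', hg'⟩ := mu_stable C k t
      rw [ht, mul_one] at hg'
      have hr := eta_real C g'
      rw [hg', C.frob] at hr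
      rw [MonoidHom.mem_ker, powMonoidHom_apply]
      refine Units.ext ?_
      rw [Units.val_pow_eq_pow_val, Units.val_one]
      have h0 : (mu C k : F) ≠ 0 := Units.ne_zero _
      rcases Nat.eq_zero_or_pos q with h | h
      · simp [h]
      · refine mul_right_cancel₀ h0 ?_
        rw [one_mul, ← pow_succ, Nat.sub_add_cancel h, hr]
    refine (Subgroup.card_dvd_of_le hle).trans ?_
    rw [IsCyclic.card_powMonoidHom_ker]
    exact Nat.gcd_dvd_right _ _

theorem card_stab : Nat.card (stab C) =
    Nat.card (root C) * Nat.gcd 3 (q + 1) * Nat.card (mu C).range := by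
  rw [card_eq_ker_mul_range (mu C), card_ker C]

/-- The root group acts on the cosets of the stabiliser. -/
noncomputable def rootHom : root C →* ↥M :=
  (stab C).subtype.comp ((mu C).ker.subtype.comp (root C).subtype)

theorem mem_root_of_pow [CharP F p] [Fact p.Prime] {b : stab C} {j : ℕ} (hb : b ^ p ^ j = 1) :
    ∃ g : root C, g.1.1 = b := by
  have hz : ∀ x : F, x ^ p ^ j = 1 → x = 1 := fun x hx =>
    iterateFrobenius_inj F p j (by rw [iterateFrobenius_def, iterateFrobenius_def, hx, one_pow])
  have h1 : mu C b = 1 := Units.ext (hz _ (by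
    rw [← Units.val_pow_eq_pow_val, ← map_pow, hb, map_one, Units.val_one]))
  have h2 : chi C ⟨b, h1⟩ = 1 := Units.ext (hz _ (by
    rw [← Units.val_pow_eq_pow_val, ← map_pow, show (⟨b, h1⟩ : (mu C).ker) ^ p ^ j = 1 from
      Subtype.ext (by simpa using hb), map_one, Units.val_one]))
  exact ⟨⟨⟨b, h1⟩, h2⟩, rfl⟩

theorem coset_semiregular [CharP F p] [Fact p.Prime] {g : root C} (hg : g ≠ 1) {y : ↥M}
    (h : y⁻¹ * (rootHom C g * y) ∈ stab C) : y ∈ stab C := by
  obtain ⟨j, hj⟩ := (root_pgroup C (p := p)) g
  set b : stab C := ⟨_, h⟩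
  have hb : b ^ p ^ j = 1 := Subtype.ext (by
    show (y⁻¹ * (rootHom C g * y)) ^ p ^ j = 1
    rw [← mul_assoc, show y⁻¹ * rootHom C g * y = y⁻¹ * rootHom C g * y⁻¹⁻¹ by rw [inv_inv],
      conj_pow, ← map_pow, hj, map_one, mul_one, inv_inv, inv_mul_cancel])
  obtain ⟨g', hg'⟩ := mem_root_of_pow C hb
  have e : rootHom C g * y = y * rootHom C g' := by
    show rootHom C g * y = y * (g'.1.1 : ↥M)
    rw [hg']
    show rootHom C g * y = y * (y⁻¹ * (rootHom C g * y))
    rw [mul_inv_cancel_left]
  have e' := congrArg (fun x : ↥M => x.1.1) e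
  obtain ⟨g10, g20, g21⟩ := up_stab C g.1.1
  obtain ⟨a0, a1, a2⟩ := root_diag C g
  obtain ⟨k10, k20, -⟩ := up_stab C g'.1.1
  obtain ⟨b0, -, -⟩ := root_diag C g'
  have hc : eta C g ≠ 0 := fun h => hg (eta_eq_zero C h)
  have e1 := congrFun (congrFun e' 1) 0
  have e0' := congrFun (congrFun e' 0) 0
  simp [rootHom, mul3, g10, a1, k10, k20, b0] at e1
  simp [rootHom, mul3, a0, k10, k20, b0] at e0'
  have h20 : y.1.1 2 0 = 0 := e1.resolve_left hc
  rw [h20, mul_zero, add_zero, root_rel C g] at e0'
  refine ⟨?_, h20⟩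
  have hσc : σ (eta C g) ≠ 0 := by simpa using hc
  have e2 : 2 * σ (eta C g) * y.1.1 1 0 = 0 := by
    simp only [eta]
    linear_combination e0'
  exact (mul_eq_zero.1 e2).resolve_left (mul_ne_zero C.two hσc)

/-- The orbit of the first point is `1` modulo the order of the root group. -/
theorem index_modEq [CharP F p] [Fact p.Prime] :
    (stab C).index ≡ 1 [MOD Nat.card (root C)] := by
  let : MulAction (root C) (↥M ⧸ stab C) := MulAction.compHom _ (rootHom C)
  obtain ⟨t, ht⟩ := exists_one C
  have ht1 : t ≠ 1 := fun e => by rw [e, eta_one' C] at ht; exact zero_ne_one ht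
  have hfix : ∀ (g : root C) (y : ↥M), g • (y : ↥M ⧸ stab C) = y ↔
      y⁻¹ * (rootHom C g * y) ∈ stab C := fun g y => by
    show ((rootHom C g * y : ↥M) : ↥M ⧸ stab C) = (y : ↥M ⧸ stab C) ↔ _
    rw [eq_comm, QuotientGroup.eq]
  have h0 : fixedPoints (root C) (↥M ⧸ stab C) = {((1 : ↥M) : ↥M ⧸ stab C)} := by
    refine Set.eq_singleton_iff_unique_mem.2 ⟨fun g => (hfix g 1).2 ?_, ?_⟩
    · rw [inv_one, one_mul, mul_one]
      exact g.1.1.2
    · rintro ⟨y⟩ hy
      exact QuotientGroup.eq.2 (by
        simpa using (stab C).inv_mem (coset_semiregular C ht1 ((hfix t y).1 (hy t))))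
  have h := card_modEq_fixed (H := root C) (X := ↥M ⧸ stab C) (N := Nat.card (root C)) (by
    rintro ⟨y⟩
    by_cases hy : y ∈ stab C
    · left
      rw [h0]
      exact QuotientGroup.eq.2 (by simpa using (stab C).inv_mem hy)
    · right
      rw [← Subgroup.index_bot]
      congr 1
      refine (Subgroup.eq_bot_iff_forall _).2 fun g hg => ?_
      by_contra hne
      exact hy (coset_semiregular C hne ((hfix g y).1 hg)))
  rwa [h0, Nat.card_coe_set_eq, Set.ncard_singleton] at h

/-- The orbit of the first point consists of isotropic points. -/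
theorem index_le : (stab C).index ≤ q ^ 3 + 1 := by
  classical
  let col : (↥M ⧸ stab C) → Fin 3 → F := fun x i => (Quotient.out x : ↥M).1.1 i 0
  have hiso : ∀ x, f0 σ (col x) (col x) = 0 := fun x => by
    have h := C.iso _ (Quotient.out x : ↥M).2 e0 e0
    simp [f0, vec3] at h
    simp [f0, col]
    linear_combination h
  have hprop : ∀ (x y : ↥M ⧸ stab C) (r : F), (∀ i, col x i = r * col y i) → x = y := by
    intro x y r h
    rw [← Quotient.out_eq x, ← Quotient.out_eq y]
    set g : ↥M := Quotient.out x
    set k : ↥M := Quotient.out y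
    refine (QuotientGroup.eq (s := stab C)).2 ?_ |>.symm |>.symm
    have hkey : ∀ i, ((g⁻¹ * k : ↥M) : GL (Fin 3) F).1 i 0 * r =
        (1 : Matrix (Fin 3) (Fin 3) F) i 0 := fun i => by
      have e : ((g⁻¹ : ↥M) : GL (Fin 3) F).1 * g.1.1 = 1 := by rw [Subgroup.coe_inv, Units.inv_mul]
      have := congrFun (congrFun e i) 0
      simp only [col] at h
      rw [mul3, h 0, h 1, h 2] at this
      simp only [Subgroup.coe_mul, Units.val_mul, mul3]
      linear_combination this
    have hr : r ≠ 0 := fun e => by simpa [e] using hkey 0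
    exact ⟨by simpa [hr] using hkey 1, by simpa [hr] using hkey 2⟩
  let Z := {z : F // z ^ q = (-1) * z}
  let code : (↥M ⧸ stab C) → Option (F × Z) := fun x =>
    if h : col x 2 = 0 then none else
      some (col x 1 / col x 2,
        ⟨col x 0 / col x 2 - (col x 1 / col x 2) * σ (col x 1 / col x 2), by
          have h' := hiso x
          simp only [f0] at h'
          have hs : σ (col x 2) ≠ 0 := by simpa using h
          simp only [← C.frob, map_sub, map_mul, map_div₀, C.invol]
          field_simp
          linear_combination -h'⟩)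
  have hinj : Function.Injective code := by
    intro x y e
    simp only [code] at e
    have hne : ∀ z, col z 2 = 0 → col z 1 = 0 ∧ col z 0 ≠ 0 := fun z h => by
      have h' := hiso z
      simp [f0, h] at h'
      have h1 : col z 1 = 0 := by
        rcases h' with h' | h'
        · exact absurd h' C.two
        · exact h'
      refine ⟨h1, fun h0 => ?_⟩
      have hd := C.det _ (Quotient.out z : ↥M).2
      simp only [col] at h h1 h0
      rw [Matrix.det_fin_three, h, h1, h0] at hd
      simp at hd
    by_cases hx : col x 2 = 0 <;> by_cases hy : col y 2 = 0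
    · obtain ⟨x1, x0⟩ := hne x hx
      obtain ⟨y1, y0⟩ := hne y hy
      refine hprop x y (col x 0 / col y 0) fun i => ?_
      fin_cases i
      · simp; field_simp
      · simp [x1, y1]
      · simp [hx, hy]
    · simp [hx, hy] at e
    · simp [hx, hy] at e
    · simp only [hx, hy, dite_false, Option.some.injEq, Prod.mk.injEq] at e
      obtain ⟨e1, e0'⟩ := e
      have e2 := congrArg Subtype.val e0'
      simp only at e2
      rw [e1, sub_left_inj] at e2
      clear e0'
      refine hprop x y (col x 2 / col y 2) fun i => ?_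
      fin_cases i
      · show col x 0 = _ * col y 0
        field_simp at e2 ⊢
        linear_combination e2
      · show col x 1 = _ * col y 1
        field_simp at e1 ⊢
        linear_combination e1
      · show col x 2 = _ * col y 2
        field_simp
  have hq : 1 < q := by
    have := C.card
    have := Fintype.one_lt_card (α := F)
    rcases q with _ | _ | q <;> simp_all
  have hb := Nat.card_le_card_of_injective code hinj
  rw [Finite.card_option, Nat.card_prod, Nat.card_eq_fintype_card (α := F), C.card] at hb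
  calc (stab C).index ≤ q ^ 2 * Nat.card Z + 1 := hb
    _ ≤ q ^ 2 * q + 1 := by
        have := card_root_le hq (-1 : F)
        nlinarith [Nat.mul_le_mul_left (q ^ 2) this]
    _ = q ^ 3 + 1 := by ring

end Cfsg.Agent.SU3Geo98.Singer
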