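import Cfsg.Agent.SU3Geo98.Singer.CharField
import Cfsg.Agent.MaxSub.HermStab

/-!
Class three of S5777, case of the characteristic (helper99): the elements of the Singer torus.
-/

set_option autoImplicit false
set_option linter.unusedSectionVars false

namespace Cfsg.Agent.SU3Geo98.Singer

open Matrix Cfsg.Agent.MaxSub

variable {F : Type*} [Field F] [Fintype F]
variable {K : Subalgebra F (Matrix (Fin 3) (Fin 3) F)} (hK : Cfsg.Geo.IsFieldSubalgebra 3 K)
variable {q : ℕ} (hF : Fintype.card F = q ^ 2) {g : GL (Fin 3) F} (hgK : g.1 ∈ K)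
  (hgo : orderOf g = q ^ 2 - q + 1)

theorem gcd_dvd_torus : Nat.gcd 3 (q + 1) ∣ q ^ 2 - q + 1 := by
  rcases (Nat.dvd_prime Nat.prime_three).1 (Nat.gcd_dvd_left 3 (q + 1)) with h | h
  · rw [h]; exact one_dvd _
  · rw [h]
    have h' : 3 ∣ q + 1 := h ▸ Nat.gcd_dvd_right 3 (q + 1)
    obtain ⟨k, hk⟩ := h'
    obtain ⟨j, rfl⟩ : ∃ j, k = j + 1 := ⟨k - 1, by omega⟩
    have hq : q = 3 * j + 2 := by omega
    subst hq
    refine ⟨3 * j ^ 2 + 3 * j + 1, ?_⟩
    have : (3 * j + 2) ^ 2 - (3 * j + 2) = 9 * j ^ 2 + 9 * j + 2 := by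
      apply Nat.sub_eq_of_eq_add; ring
    rw [this]; ring

/-- Nine does not divide the order of the torus, three only when it divides `q + 1`. -/
theorem gcd_nine : Nat.gcd 9 (q ^ 2 - q + 1) ∣ Nat.gcd 3 (q + 1) := by
  have key : ∀ r < 9, Nat.gcd 9 ((r * r + 8 * r + 1) % 9) ∣ Nat.gcd 3 (r + 1) := by decide
  have h9 : (q ^ 2 - q + 1) % 9 = (q % 9 * (q % 9) + 8 * (q % 9) + 1) % 9 := by
    have e : q ^ 2 - q + 1 + 9 * q = q * q + 8 * q + 1 := by
      have : q ≤ q ^ 2 := Nat.le_self_pow (by norm_num) q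
      rw [pow_two] at *
      omega
    have h := congrArg (· % 9) e
    simp only [Nat.add_mul_mod_self_left] at h
    rw [h]
    simp [Nat.add_mod, Nat.mul_mod]
  have h := key (q % 9) (Nat.mod_lt _ (by norm_num))
  rw [← h9] at h
  rw [Nat.gcd_comm 9 ((q ^ 2 - q + 1) % 9), ← Nat.gcd_rec] at h
  refine h.trans (dvd_of_eq ?_)
  rw [Nat.gcd_rec 3 (q % 9 + 1), Nat.gcd_rec 3 (q + 1)]
  congr 1
  omega

include hgK in
theorem mem_K_of_mem_zpowers {t : GL (Fin 3) F} (ht : t ∈ Subgroup.zpowers g) : t.1 ∈ K := by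
  obtain ⟨k, rfl⟩ := mem_powers_iff_mem_zpowers.2 ht
  show (g ^ k : GL (Fin 3) F).1 ∈ K
  rw [Units.val_pow_eq_pow_val]
  exact pow_mem hgK k

include hgK hgo in
theorem pow_torus {t : GL (Fin 3) F} (ht : t ∈ Subgroup.zpowers g) : t ^ (q ^ 2 - q + 1) = 1 :=
  orderOf_dvd_iff_pow_eq_one.1 (hgo ▸ orderOf_dvd_of_mem_zpowers ht)

include hK hF hgK hgo in
/-- The elements of order dividing `gcd(3, q + 1)` in the torus are scalar. -/
theorem scalar_of_pow {t : GL (Fin 3) F} (ht : t ∈ Subgroup.zpowers g)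
    (hd : t ^ Nat.gcd 3 (q + 1) = 1) : ∃ r : F, (t : Matrix (Fin 3) (Fin 3) F) = r • 1 := by
  rcases (Nat.dvd_prime Nat.prime_three).1 (Nat.gcd_dvd_left 3 (q + 1)) with h | h
  · refine ⟨1, ?_⟩
    rw [h, pow_one] at hd
    rw [hd, Units.val_one, one_smul]
  rw [h] at hd
  have h3 : 3 ∣ q + 1 := h ▸ Nat.gcd_dvd_right 3 (q + 1)
  have hq : 1 < q := by
    have := Fintype.one_lt_card (α := F)
    rcases q with _ | _ | q <;> simp_all
  have h3F : 3 ∣ Nat.card Fˣ := by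
    rw [Nat.card_units, Nat.card_eq_fintype_card, hF]
    refine h3.trans ⟨q - 1, ?_⟩
    rw [Nat.mul_sub, mul_one, add_mul, one_mul, ← pow_two]
    omega
  have : Fact (Nat.Prime 3) := ⟨Nat.prime_three⟩
  obtain ⟨w, hw⟩ := exists_prime_orderOf_dvd_card' (G := Fˣ) 3 h3F
  have hw3 : (w : F) ^ 3 = 1 := by
    rw [← Units.val_pow_eq_pow_val, ← hw, pow_orderOf_eq_one, Units.val_one]
  have hw1 : (w : F) ≠ 1 := fun e => by
    rw [Units.val_eq_one] at e
    rw [e, orderOf_one] at hw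
    omega
  have hsum : (w : F) ^ 2 + w + 1 = 0 :=
    (mul_eq_zero.1 (show ((w : F) - 1) * ((w : F) ^ 2 + w + 1) = 0 by
      linear_combination hw3)).resolve_left (sub_ne_zero.2 hw1)
  set T := (t : Matrix (Fin 3) (Fin 3) F)
  have hT : T ∈ K := mem_K_of_mem_zpowers hgK ht
  have hT3 : T * T * T = 1 := by
    rw [← Units.val_one, ← hd, pow_succ, pow_two, Units.val_mul, Units.val_mul]
  have hm : ∀ r : F, T - r • 1 ∈ K := fun r => sub_mem hT (K.smul_mem K.one_mem r)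
  have hprod : (T - (1 : F) • 1) * ((T - (w : F) • 1) * (T - ((w : F) ^ 2) • 1)) = 0 := by
    simp only [sub_mul, mul_sub, Matrix.smul_mul, Matrix.mul_smul, one_mul, mul_one, smul_smul,
      one_smul, ← mul_assoc]
    rw [hT3]
    match_scalars <;>
      first
        | linear_combination hw3
        | linear_combination -hw3
        | linear_combination hsum
        | linear_combination -hsum
        | linear_combination (w : F) * hsum
  rcases eq_zero_or_of_mul hK (hm 1) hprod with h' | h'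
  · exact ⟨1, sub_eq_zero.1 h'⟩
  rcases eq_zero_or_of_mul hK (hm _) h' with h' | h'
  · exact ⟨_, sub_eq_zero.1 h'⟩
  · exact ⟨_, sub_eq_zero.1 h'⟩

variable {σ : F ≃+* F} {f : (Fin 3 → F) → (Fin 3 → F) → F}

/-- A scalar special isometry is killed by `gcd(3, q + 1)`. -/
theorem pow_of_scalar (hσ : ∀ x, σ x = x ^ q) (hf : Cfsg.Geo.IsUnitaryForm σ f)
    {z : GL (Fin 3) F} (hz : z ∈ HermStab.su f) {r : F}
    (hr : (z : Matrix (Fin 3) (Fin 3) F) = r • 1) :
    r ^ Nat.gcd 3 (q + 1) = 1 ∧ z ^ Nat.gcd 3 (q + 1) = 1 := by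
  have h3 : r ^ 3 = 1 := by
    have hd : (Matrix.GeneralLinearGroup.det z) = 1 := hz.2
    have := congrArg Units.val hd
    simpa [Matrix.GeneralLinearGroup.val_det_apply, hr] using this
  have hr0 : r ≠ 0 := fun e => by simp [e] at h3
  obtain ⟨-, ⟨y, hy⟩⟩ := hf.nondegenerate (Pi.single 0 1 : Fin 3 → F) (by simp)
  have hq1 : r ^ (q + 1) = 1 := by
    have h := mem_isom.mp hz.1 (Pi.single 0 1 : Fin 3 → F) y
    rw [hr, smul_mulVec, one_mulVec, smul_mulVec, one_mulVec, hf.smul_left, hsmul_right hf, hσ,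
      ← mul_assoc, ← pow_succ'] at h
    exact (mul_eq_right₀ hy).1 h
  have hd := pow_gcd_eq_one.2 ⟨h3, hq1⟩
  refine ⟨hd, Units.ext ?_⟩
  rw [Units.val_pow_eq_pow_val, hr, smul_pow, hd, one_pow, one_smul, Units.val_one]

end Cfsg.Agent.SU3Geo98.Singer
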