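import Cfsg.Agent.SU3Geo98.C6.Normal
import Cfsg.Agent.SU3Geo98.Singer.CharArith
import Cfsg.Agent.SU3Geo98.Singer.CharPoint
import Cfsg.Agent.SU3Geo98.Singer.CharTorus

/-!
Class three of S5777, case of the characteristic (helper99): a group of special isometries without
transvections that properly contains the normaliser of a Singer torus has order prime to `q`.
-/

set_option autoImplicit false
set_option linter.unusedSectionVars false

namespace Cfsg.Agent.SU3Geo98.Singer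

open Matrix MulAction Cfsg.Agent.MaxSub
open SL3Geo34 (IsTransvec)
open SL3Geo32.Regular (TM TG TG_coe exists_basis)
open SU3Geo98.C6 (f0 exists_adapted)
open scoped IsMulCommutative

variable {F : Type*} [Field F] [Fintype F]

section
variable {σ : F ≃+* F} {f : (Fin 3 → F) → (Fin 3 → F) → F} {q : ℕ} {M : Subgroup (GL (Fin 3) F)}

/-- A conjugate is in normal form. -/
theorem exists_pctx {p : ℕ} [Fact p.Prime] [CharP F p] (h2 : (2 : F) ≠ 0)
    (hF : Fintype.card F = q ^ 2) (hσ : ∀ x, σ x = x ^ q) (hf : Cfsg.Geo.IsUnitaryForm σ f)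
    (hMG : M ≤ HermStab.su f) (hno : ∀ g ∈ M, ¬ IsTransvec g)
    (hsc : ∀ w : F, w ^ Nat.gcd 3 (q + 1) = 1 →
      ∃ z ∈ M, (z : Matrix (Fin 3) (Fin 3) F) = w • 1)
    (hdvd : p ∣ Nat.card M) :
    ∃ k : GL (Fin 3) F, PCtx σ q (M.map (MulAut.conj k).toMonoidHom) := by
  have hp : p.Prime := Fact.out
  obtain ⟨⟨x, hxM⟩, hord⟩ := exists_prime_orderOf_dvd_card' (G := M) p hdvd
  rw [Subgroup.orderOf_mk] at hord
  set N := (x : Matrix (Fin 3) (Fin 3) F) - 1 with hN
  have hnil : IsNilpotent N := ⟨p, by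
    rw [hN, sub_pow_char_of_commute p (Commute.one_right _), one_pow, ← Units.val_pow_eq_pow_val,
      ← hord, pow_orderOf_eq_one, Units.val_one, sub_self]⟩
  have hN3 : N * N * N = 0 := by
    have h := (Matrix.isNilpotent_charpoly_sub_pow_of_isNilpotent hnil).eq_zero
    have h' := Matrix.aeval_self_charpoly N
    rw [sub_eq_zero.mp h, map_pow, Polynomial.aeval_X, Fintype.card_fin, pow_succ, pow_two] at h'
    exact h'
  have hN2 : N * N ≠ 0 := fun h => hno x hxM ⟨fun h1 => by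
    rw [h1, orderOf_one] at hord
    exact hp.one_lt.ne hord, h⟩
  obtain ⟨h, hh⟩ := exists_basis h2 x hN hN3 hN2
  have hiso : ∀ g ∈ M, ∀ u v, f ((g : Matrix (Fin 3) (Fin 3) F) *ᵥ u)
      ((g : Matrix (Fin 3) (Fin 3) F) *ᵥ v) = f u v := fun g hg => mem_isom.mp (hMG hg).1
  set f' : (Fin 3 → F) → (Fin 3 → F) → F := fun u v =>
    f ((h : Matrix (Fin 3) (Fin 3) F) *ᵥ u) ((h : Matrix (Fin 3) (Fin 3) F) *ᵥ v) with hf'
  have hinj : ∀ u : Fin 3 → F, (h : Matrix (Fin 3) (Fin 3) F) *ᵥ u = 0 → u = 0 := fun u hu => by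
    rw [← inv_mulVec_mulVec h u, hu, mulVec_zero]
  have hf'u : Cfsg.Geo.IsUnitaryForm σ f' :=
    { ne_refl := hf.ne_refl
      involutive := hf.involutive
      add_left := fun u v w => by simp only [hf', mulVec_add, hf.add_left]
      smul_left := fun r u v => by simp only [hf', mulVec_smul, hf.smul_left]
      herm := fun u v => hf.herm _ _
      nondegenerate := fun u hu => by
        obtain ⟨⟨y, hy⟩, ⟨z, hz⟩⟩ := hf.nondegenerate _ fun e => hu (hinj u e)
        exact ⟨⟨((h⁻¹ : GL (Fin 3) F) : Matrix (Fin 3) (Fin 3) F) *ᵥ y, by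
            simp only [hf', mulVec_inv_mulVec]; exact hy⟩,
          ⟨((h⁻¹ : GL (Fin 3) F) : Matrix (Fin 3) (Fin 3) F) *ᵥ z, by
            simp only [hf', mulVec_inv_mulVec]; exact hz⟩⟩ }
  have hxh : h * TG 1 = x * h := by rw [← hh]; group
  have hT : ∀ u v, f' (TM 1 *ᵥ u) (TM 1 *ᵥ v) = f' u v := fun u v => by
    simp only [hf', mulVec_mulVec, ← TG_coe, ← Units.val_mul, hxh]
    simp only [Units.val_mul, ← mulVec_mulVec, hiso x hxM]
  obtain ⟨K, c, hc, hKT, hKf⟩ := exists_adapted hf'u h2 hT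
  set k := (h * K)⁻¹ with hk
  have hf0 : ∀ u v, f (((h * K : GL (Fin 3) F) : Matrix (Fin 3) (Fin 3) F) *ᵥ u)
      (((h * K : GL (Fin 3) F) : Matrix (Fin 3) (Fin 3) F) *ᵥ v) = c * f0 σ u v := fun u v => by
    rw [← hKf, hf', Units.val_mul, ← mulVec_mulVec, ← mulVec_mulVec]
  refine ⟨k, ⟨h2, hF, hσ, hf.involutive, ?_, ?_, ⟨x, hxM, ?_⟩, ?_, ?_⟩⟩
  · rintro _ ⟨g, hg, rfl⟩ u v
    refine mul_left_cancel₀ hc ?_
    rw [← hf0, ← hf0]
    have e : h * K * (MulAut.conj k g) = g * (h * K) := by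
      rw [MulAut.conj_apply, hk]; group
    simp only [MulEquiv.coe_toMonoidHom, mulVec_mulVec, ← Units.val_mul, e]
    simp only [Units.val_mul, ← mulVec_mulVec, hiso g hg]
  · rintro _ ⟨g, hg, rfl⟩
    have hd : (Matrix.GeneralLinearGroup.det g) = 1 := (hMG hg).2
    simp only [MulEquiv.coe_toMonoidHom, MulAut.conj_apply, Units.val_mul]
    rw [Matrix.det_units_conj]
    exact congrArg Units.val hd
  · show MulAut.conj k x = TG 1
    rw [MulAut.conj_apply, hk, inv_inv, _root_.mul_inv_rev]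
    calc K⁻¹ * h⁻¹ * x * (h * K) = K⁻¹ * (h⁻¹ * x * h * K) := by group
      _ = TG 1 := by rw [hh, ← hKT, inv_mul_cancel_left]
  · rintro _ ⟨g, hg, rfl⟩ ⟨h1, h1'⟩
    refine hno g hg ⟨fun e => h1 (by rw [e, map_one]), ?_⟩
    have e : (MulAut.conj k g : GL (Fin 3) F).1 - 1 = (k : Matrix (Fin 3) (Fin 3) F) *
        ((g : Matrix (Fin 3) (Fin 3) F) - 1) * ((k⁻¹ : GL (Fin 3) F) : Matrix (Fin 3) (Fin 3) F) := by
      rw [MulAut.conj_apply, Units.val_mul, Units.val_mul, Matrix.mul_sub, Matrix.sub_mul,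
        Matrix.mul_one, Units.mul_inv]
    rw [MulEquiv.coe_toMonoidHom, e] at h1'
    have h4 := congrArg (fun A => ((k⁻¹ : GL (Fin 3) F) : Matrix (Fin 3) (Fin 3) F) * A *
      (k : Matrix (Fin 3) (Fin 3) F)) h1'
    simpa [← Matrix.mul_assoc, Units.inv_mul_cancel_right] using h4
  · intro w hw
    obtain ⟨z, hz, e⟩ := hsc w hw
    refine ⟨_, ⟨z, hz, rfl⟩, ?_⟩
    simp [e]

/-- The stabiliser of a coset, in terms of conjugation. -/
theorem smul_coset_iff {G : Type*} [Group G] (H : Subgroup G) (t y : G) :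
    ((t * y : G) : G ⧸ H) = (y : G ⧸ H) ↔ y⁻¹ * t * y ∈ H := by
  rw [eq_comm, QuotientGroup.eq, mul_assoc]

set_option maxHeartbeats 1000000 in
/-- A group of special isometries without transvections properly containing the normaliser of a
Singer torus has order prime to the characteristic. -/
theorem false_of_dvd (hF : Fintype.card F = q ^ 2) (hq : 7 ≤ q) (hodd : Odd q)
    (hσ : ∀ x, σ x = x ^ q) (hf : Cfsg.Geo.IsUnitaryForm σ f) (hMG : M ≤ HermStab.su f)
    (hno : ∀ g ∈ M, ¬ IsTransvec g) {K : Subalgebra F (Matrix (Fin 3) (Fin 3) F)}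
    (hK : Cfsg.Geo.IsFieldSubalgebra 3 K) {g : GL (Fin 3) F} (hg : g ∈ M) (hgK : g.1 ∈ K)
    (hgo : orderOf g = q ^ 2 - q + 1)
    (hN : Nat.card ↥(M ⊓ Cfsg.Geo.subalgebraNormalizer K) = 3 * (q ^ 2 - q + 1))
    (hlt : 3 * (q ^ 2 - q + 1) < Nat.card M) {p : ℕ} [CharP F p] (hp : p ∣ Nat.card M) : False := by
  classical
  have hpp : p.Prime := CharP.char_is_prime F p
  have : Fact p.Prime := ⟨hpp⟩
  obtain ⟨n, -, hn⟩ := FiniteField.card F p
  obtain ⟨a, -, hqa⟩ := (Nat.dvd_prime_pow hpp).1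
    (show q ∣ p ^ (n : ℕ) from ⟨q, by rw [← hn, hF, pow_two]⟩)
  have ha : a ≠ 0 := fun e => by rw [e, pow_zero] at hqa; omega
  have hp2 : p ≠ 2 := fun e => by
    rw [hqa, e] at hodd
    exact Nat.not_even_iff_odd.2 hodd ((Nat.even_pow).2 ⟨by decide, ha⟩)
  have h2 : (2 : F) ≠ 0 := by
    intro h
    have h' : ((2 : ℕ) : F) = 0 := by exact_mod_cast h
    rw [CharP.cast_eq_zero_iff F p] at h'
    exact hp2 ((Nat.prime_dvd_prime_iff_eq hpp Nat.prime_two).1 h')
  set d := Nat.gcd 3 (q + 1) with hd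
  set A := q ^ 2 - q + 1 with hA
  obtain ⟨N, hAN⟩ : d ∣ A := gcd_dvd_torus (q := q)
  have hd0 : 0 < d := Nat.gcd_pos_of_pos_left _ (by norm_num)
  have hA0 : 0 < A := by omega
  have hN0 : 0 < N := pos_of_mul_pos_right (hAN ▸ hA0 : 0 < d * N) hd0.le
  set T := Subgroup.zpowers g
  have hTM : T ≤ M := Subgroup.zpowers_le.2 hg
  have hTcard : Nat.card T = A := (Nat.card_zpowers g).trans hgo
  have hscal : ∀ t ∈ T, (∃ r : F, t.1 = r • 1) ↔ t ^ d = 1 := fun t ht =>
    ⟨fun ⟨r, hr⟩ => (pow_of_scalar hσ hf (hMG (hTM ht)) hr).2,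
      scalar_of_pow hK hF hgK hgo ht⟩
  set KT : Subgroup ↥T := (powMonoidHom d : ↥T →* ↥T).ker with hKT
  have hKTcard : Nat.card KT = d := by
    rw [hKT, IsCyclic.card_powMonoidHom_ker, hTcard, hAN, Nat.gcd_mul_right_left]
  have hKTindex : KT.index = N := by
    have h := KT.card_mul_index
    rw [hKTcard, hTcard, hAN] at h
    exact Nat.eq_of_mul_eq_mul_left hd0 h
  have hKTmem : ∀ t : T, t ∈ KT ↔ ∃ r : F, t.1.1 = r • 1 := fun t => by
    rw [hscal _ t.2, hKT, MonoidHom.mem_ker, powMonoidHom_apply, Subtype.ext_iff]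
    rfl
  have hsc : ∀ w : F, w ^ d = 1 → ∃ z ∈ M, (z : Matrix (Fin 3) (Fin 3) F) = w • 1 := by
    have hw' : ∀ t : KT, ∃ r : Fˣ, r ^ d = 1 ∧ t.1.1.1 = (r : F) • 1 := fun t => by
      obtain ⟨r, hr⟩ := (hKTmem _).1 t.2
      have h := (pow_of_scalar hσ hf (hMG (hTM t.1.2)) hr).1
      have hr0 : r ≠ 0 := fun e => by rw [e, zero_pow hd0.ne'] at h; exact zero_ne_one h
      exact ⟨Units.mk0 r hr0, Units.ext (by rw [Units.val_pow_eq_pow_val]; exact h), hr⟩
    choose ρ hρd hρ using hw'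
    let ρ' : KT → (powMonoidHom d : Fˣ →* Fˣ).ker := fun t => ⟨ρ t, hρd t⟩
    have hinj : Function.Injective ρ' := fun s t e => by
      refine Subtype.ext (Subtype.ext (Units.ext ?_))
      rw [hρ s, hρ t, show ρ s = ρ t from congrArg Subtype.val e]
    have hsurj : Function.Surjective ρ' := by
      refine ((Nat.bijective_iff_injective_and_card ρ').2 ⟨hinj, ?_⟩).2
      rw [hKTcard, IsCyclic.card_powMonoidHom_ker]
      refine (Nat.gcd_eq_right ?_).symm
      rw [Nat.card_units, Nat.card_eq_fintype_card, hF]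
      refine (Nat.gcd_dvd_right 3 (q + 1)).trans ⟨q - 1, ?_⟩
      rw [Nat.mul_sub, mul_one, add_mul, one_mul, ← pow_two]
      omega
    intro w hw
    have hw0 : w ≠ 0 := fun e => by rw [e, zero_pow hd0.ne'] at hw; exact zero_ne_one hw
    obtain ⟨t, ht⟩ := hsurj ⟨Units.mk0 w hw0, Units.ext (by simpa using hw)⟩
    refine ⟨t.1.1, hTM t.1.2, ?_⟩
    rw [hρ t, show ρ t = Units.mk0 w hw0 from congrArg Subtype.val ht, Units.val_mk0]
  obtain ⟨k, C⟩ := exists_pctx h2 hF hσ hf hMG hno hsc hp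
  set e := M.equivMapOfInjective (MulAut.conj k).toMonoidHom (MulAut.conj k).injective with he
  set S : Subgroup ↥M := (stab C).comap e.toMonoidHom with hS
  have hSi : S.index = (stab C).index := Subgroup.index_comap_of_surjective _ e.surjective
  have hScard : Nat.card S = Nat.card (stab C) :=
    Nat.card_congr (e.toEquiv.subtypeEquiv fun x => Iff.rfl)
  set v0 : Fin 3 → F := (k⁻¹ : GL (Fin 3) F).1 *ᵥ ![1, 0, 0] with hv0
  have hv0n : v0 ≠ 0 := fun h => by
    have := congrArg (fun v => k.1 *ᵥ v) h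
    rw [hv0, mulVec_mulVec, Units.mul_inv, one_mulVec, mulVec_zero] at this
    exact one_ne_zero (congrFun this 0)
  have hSfix : ∀ b ∈ S, ∃ r : F, (b : GL (Fin 3) F).1 *ᵥ v0 = r • v0 := fun b hb => by
    obtain ⟨B, hB⟩ : ∃ B : GL (Fin 3) F, B = k * b * k⁻¹ := ⟨_, rfl⟩
    have h10 : B.1 1 0 = 0 := by rw [hB]; exact hb.1
    have h20 : B.1 2 0 = 0 := by rw [hB]; exact hb.2
    refine ⟨B.1 0 0, ?_⟩
    have e2 : B.1 *ᵥ ![1, 0, 0] = B.1 0 0 • (![1, 0, 0] : Fin 3 → F) := by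
      ext i
      fin_cases i <;> simp [SU3Geo98.C6.vec3, h10, h20]
    have e3 : (b : GL (Fin 3) F).1 * (k⁻¹).1 = (k⁻¹).1 * B.1 := by
      rw [hB, ← Units.val_mul, ← Units.val_mul]
      congr 1
      group
    rw [hv0, mulVec_mulVec, e3, ← mulVec_mulVec, e2, mulVec_smul]
  -- the torus on the cosets of the point stabiliser
  let ι : T →* ↥M := Subgroup.inclusion hTM
  have hfree : ∀ (t : T) (y : ↥M), y⁻¹ * ι t * y ∈ S → t ∈ KT := fun t y h => by
    obtain ⟨r, hr⟩ := hSfix _ h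
    rw [hKTmem]
    refine ⟨r, scalar_of_eigen hK (mem_K_of_mem_zpowers hgK t.2)
      (v := (y : GL (Fin 3) F).1 *ᵥ v0) (fun h0 => hv0n ?_) ?_⟩
    · rw [← inv_mulVec_mulVec (y : GL (Fin 3) F) v0, h0, mulVec_zero]
    · have hr' := congrArg (fun v => (y : GL (Fin 3) F).1 *ᵥ v) hr
      simp only [mulVec_mulVec, mulVec_smul] at hr'
      rw [mulVec_mulVec, ← hr']
      simp only [ι, Subgroup.coe_mul, Subgroup.coe_inv, Units.val_mul, ← mul_assoc, Units.mul_inv,
        one_mul, Subgroup.coe_inclusion]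
  have hKTcomm : ∀ t ∈ KT, ∀ y : ↥M, y⁻¹ * ι t * y = ι t := fun t ht y => by
    obtain ⟨r, hr⟩ := (hKTmem t).1 ht
    rw [mul_assoc, inv_mul_eq_iff_eq_mul]
    exact Subtype.ext (Units.ext (by simp [ι, hr]))
  have hKTS : ∀ t ∈ KT, ι t ∈ S := fun t ht => by
    obtain ⟨r, hr⟩ := (hKTmem t).1 ht
    have e1 : (k * t.1 * k⁻¹ : GL (Fin 3) F).1 = r • 1 := by simp [hr]
    refine ⟨?_, ?_⟩ <;> show (k * t.1 * k⁻¹ : GL (Fin 3) F).1 _ 0 = 0 <;> simp [e1]
  obtain ⟨m, hm⟩ : N ∣ S.index := by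
    let : MulAction T (↥M ⧸ S) := MulAction.compHom _ ι
    have hst : ∀ x : ↥M ⧸ S, stabilizer T x = KT := by
      rintro ⟨y⟩
      ext t
      show ((ι t * y : ↥M) : ↥M ⧸ S) = (y : ↥M ⧸ S) ↔ t ∈ KT
      rw [smul_coset_iff]
      exact ⟨hfree t y, fun ht => by rw [hKTcomm t ht y]; exact hKTS t ht⟩
    have h := card_modEq_fixed (H := T) (X := ↥M ⧸ S) (N := N) fun x =>
      Or.inr (by rw [hst, hKTindex])
    have h0 : fixedPoints T (↥M ⧸ S) = ∅ := by
      refine Set.eq_empty_iff_forall_notMem.2 fun x hx => ?_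
      have e1 : stabilizer T x = ⊤ := (Subgroup.eq_top_iff' _).2 hx
      rw [hst] at e1
      rw [e1, Subgroup.index_top] at hKTindex
      have : A = d := by rw [hAN, ← hKTindex, mul_one]
      have h3 : d ≤ 3 := Nat.le_of_dvd (by norm_num) (Nat.gcd_dvd_left _ _)
      have : 2 * q ≤ q ^ 2 := by nlinarith
      omega
    rw [h0, Nat.card_coe_set_eq, Set.ncard_empty] at h
    exact Nat.modEq_zero_iff_dvd.1 h
  -- the torus on the cosets of its normaliser
  set Nm : Subgroup ↥M := (Cfsg.Geo.subalgebraNormalizer K).comap M.subtype with hNm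
  have hNmcard : Nat.card Nm = 3 * A := by
    rw [← hN]
    exact Nat.card_congr
      { toFun := fun x => ⟨x.1.1, x.1.2, x.2⟩
        invFun := fun x => ⟨⟨x.1, x.2.1⟩, x.2.2⟩
        left_inv := fun _ => rfl
        right_inv := fun _ => rfl }
  have hTNm : ∀ t : T, ι t ∈ Nm := fun t => by
    show t.1 ∈ Cfsg.Geo.subalgebraNormalizer K
    have h1 := mem_K_of_mem_zpowers hgK t.2
    have h2 := mem_K_of_mem_zpowers hgK (T.inv_mem t.2)
    intro x
    refine ⟨fun hx => mul_mem (mul_mem h1 hx) h2, fun hx => ?_⟩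
    have := mul_mem (mul_mem h2 hx) h1
    simpa [mul_assoc] using this
  have hNmfix : ∀ (t : T) (y : ↥M), y⁻¹ * ι t * y ∈ Nm → t ∉ KT → y ∈ Nm := fun t y h ht => by
    have h3 := cube_mem hK h
    have hns : ∀ r : F, ((t : GL (Fin 3) F) ^ 3).1 ≠ r • 1 := fun r hr => by
      have hd3 : ((t : GL (Fin 3) F) ^ 3) ^ d = 1 :=
        (pow_of_scalar hσ hf (hMG (pow_mem (hTM t.2) 3)) hr).2
      have h9 : (t : GL (Fin 3) F) ^ 9 = 1 := by
        rcases (Nat.dvd_prime Nat.prime_three).1 (Nat.gcd_dvd_left 3 (q + 1)) with h' | h'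
        · rw [hd, h', pow_one] at hd3
          rw [show 9 = 3 * 3 by norm_num, pow_mul, hd3, one_pow]
        · rw [hd, h', ← pow_mul] at hd3
          exact hd3
      refine ht ((hKTmem t).2 ((hscal _ t.2).2 ?_))
      exact orderOf_dvd_iff_pow_eq_one.1 ((Nat.dvd_gcd (orderOf_dvd_of_pow_eq_one h9)
        (orderOf_dvd_of_pow_eq_one (pow_torus hgK hgo t.2))).trans gcd_nine)
    have hc : ((y : GL (Fin 3) F)⁻¹) ∈ Cfsg.Geo.subalgebraNormalizer K := by
      refine normalizes_of_conj hK (k := ((t : GL (Fin 3) F) ^ 3).1)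
        (mem_K_of_mem_zpowers hgK (pow_mem t.2 3)) hns ?_
      have e3 : ((M.subtype (y⁻¹ * ι t * y)) ^ 3) =
          (y : GL (Fin 3) F)⁻¹ * (t : GL (Fin 3) F) ^ 3 * (y : GL (Fin 3) F)⁻¹⁻¹ := by
        rw [← conj_pow]
        simp [ι]
      rw [← Units.val_mul, ← Units.val_mul, ← e3]
      exact h3
    show (y : GL (Fin 3) F) ∈ Cfsg.Geo.subalgebraNormalizer K
    simpa using inv_mem hc
  have hI : Nm.index ≡ 1 [MOD N] := by
    let : MulAction T (↥M ⧸ Nm) := MulAction.compHom _ ι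
    have hfix : ∀ (t : T) (y : ↥M), t • (y : ↥M ⧸ Nm) = y ↔ y⁻¹ * ι t * y ∈ Nm := fun t y =>
      smul_coset_iff Nm (ι t) y
    have hNlt : KT ≠ ⊤ := fun e1 => by
      rw [e1, Subgroup.index_top] at hKTindex
      have : A = d := by rw [hAN, ← hKTindex, mul_one]
      have h3 : d ≤ 3 := Nat.le_of_dvd (by norm_num) (Nat.gcd_dvd_left _ _)
      have : 2 * q ≤ q ^ 2 := by nlinarith
      omega
    obtain ⟨t0, -, ht0⟩ := SetLike.exists_of_lt (lt_top_iff_ne_top.2 hNlt)
    have h0 : fixedPoints T (↥M ⧸ Nm) = {((1 : ↥M) : ↥M ⧸ Nm)} := by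
      refine Set.eq_singleton_iff_unique_mem.2 ⟨fun t => (hfix t 1).2 ?_, ?_⟩
      · rw [inv_one, one_mul, mul_one]; exact hTNm t
      · rintro ⟨y⟩ hy
        exact QuotientGroup.eq.2 (by simpa using Nm.inv_mem (hNmfix t0 y ((hfix t0 y).1 (hy t0)) ht0))
    have h := card_modEq_fixed (H := T) (X := ↥M ⧸ Nm) (N := N) (by
      rintro ⟨y⟩
      by_cases hy : y ∈ Nm
      · left
        rw [h0]
        exact QuotientGroup.eq.2 (by simpa using Nm.inv_mem hy)
      · right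
        rw [← hKTindex]
        congr 1
        ext t
        refine ⟨fun ht => ?_, fun ht => (hfix t y).2 (by rw [hKTcomm t ht y]; exact hTNm t)⟩
        by_contra hne
        exact hy (hNmfix t y ((hfix t y).1 ht) hne))
    rwa [h0, Nat.card_coe_set_eq, Set.ncard_singleton] at h
  have hM1 := Nm.card_mul_index
  have hM2 := S.card_mul_index
  rw [hNmcard] at hM1
  rw [hScard, card_stab C, hm, ← hM1] at hM2
  have hI1 : 1 < Nm.index := by
    by_contra hc
    push Not at hc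
    have : 3 * A * Nm.index ≤ 3 * A := by nlinarith
    omega
  have h3 : 3 * Nm.index = m * Nat.card (root C) * Nat.card (mu C).range := by
    refine Nat.eq_of_mul_eq_mul_left (Nat.mul_pos hd0 hN0) ?_
    have : 3 * (d * N) * Nm.index =
        Nat.card (root C) * d * Nat.card (mu C).range * (N * m) := by rw [← hAN]; exact hM2.symm
    linear_combination this
  have hmq : m ≤ d * (q + 1) := by
    refine Nat.le_of_mul_le_mul_left ?_ hN0
    rw [← hm, hSi, show N * (d * (q + 1)) = A * (q + 1) by rw [hAN]; ring]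
    refine (index_le C).trans (le_of_eq ?_)
    have hAq : A + q = q ^ 2 + 1 := by
      have := Nat.le_self_pow (by norm_num : 2 ≠ 0) q
      omega
    zify at hAq ⊢
    linear_combination -((q : ℤ) + 1) * hAq
  refine false_of_counts hq hodd ((isPrimePow_nat_iff q).2 ⟨p, a, hpp, Nat.pos_of_ne_zero ha, hqa.symm⟩)
    hd hAN.symm (card_root_dvd C hqa) (one_lt_card_root C) (card_range_dvd C).1 (card_range_dvd C).2
    ?_ hmq hI hI1 h3
  rw [mul_comm, ← hm, hSi]
  exact index_modEq C (p := p)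

end

end Cfsg.Agent.SU3Geo98.Singer
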