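import Cfsg.Agent.ExtFieldMax.Herm.Form
import Cfsg.Agent.MaxSub.HermStabStd
import Cfsg.Agent.Lib.LinearGroup.SingerElusive

/-!
S5777 (4): the norm one torus of an adjoint closed cubic field and the order of its normaliser
(helper60, for helper98).
-/

set_option autoImplicit false
set_option linter.unusedSectionVars false

namespace Cfsg.Agent.SU3Geo98.Singer.Torus

open Matrix Cfsg.Agent.MaxSub Cfsg.Agent.ExtFieldMax
open scoped Classical

variable {F : Type*} [Field F] [Fintype F] {q : ℕ} {σ : F ≃+* F}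
variable {K : Subalgebra F (Matrix (Fin 3) (Fin 3) F)}

local instance : Fact (Nat.Prime 3) := ⟨Nat.prime_three⟩

/-- The setting: isometries linear over the field. -/
theorem setting (hf : Geo.IsUnitaryForm σ (hermForm 3 F q)) (hK : Geo.IsFieldSubalgebra 3 K) :
    Herm.Setting σ (hermForm 3 F q) K 3 (isom (hermForm 3 F q)) :=
  ⟨hK, Nat.prime_three, by decide, hf, fun _ hg _ _ => hg, le_rfl⟩

/-- The arithmetic of the exponents. -/
theorem exp_facts (hq : 3 ≤ q) :
    (q ^ 2 - q + 1) * (q + 1) = q ^ 3 + 1 ∧ (q ^ 2 - q + 1) * (q ^ 2 + q + 1) = q ^ 4 + q ^ 2 + 1 ∧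
      Nat.gcd (q ^ 3 + 1) (q ^ 4 + q ^ 2 + 1) = q ^ 2 - q + 1 := by
  have hqq : q ≤ q ^ 2 := Nat.le_self_pow two_ne_zero q
  have e1 : (q ^ 2 - q + 1) * (q + 1) = q ^ 3 + 1 := by zify [hqq]; ring
  have e2 : (q ^ 2 - q + 1) * (q ^ 2 + q + 1) = q ^ 4 + q ^ 2 + 1 := by zify [hqq]; ring
  refine ⟨e1, e2, ?_⟩
  rw [← e1, ← e2, Nat.gcd_mul_left, show Nat.gcd (q + 1) (q ^ 2 + q + 1) = 1 from ?_, mul_one]
  rw [show q ^ 2 + q + 1 = 1 + (q + 1) * q by ring, Nat.gcd_add_mul_left_right, Nat.gcd_one_right]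

variable (hF : Fintype.card F = q ^ 2) (hq : 3 ≤ q) (hσ : ∀ x, σ x = x ^ q)
  (hf : Geo.IsUnitaryForm σ (hermForm 3 F q)) (hK : Geo.IsFieldSubalgebra 3 K) (G : Herm.Data (hermForm 3 F q) K)
include hF hq hσ hf hK G

omit G in
theorem card_K : Nat.card K = q ^ 6 := by
  have : Module.Finite F K := Module.finite_of_finrank_pos (by rw [hK.finrank_eq]; norm_num)
  rw [Module.natCard_eq_pow_finrank (K := F), hK.finrank_eq, Nat.card_eq_fintype_card, hF, ← pow_mul]

omit G in
theorem pow_card_K (x : K) : x ^ q ^ 6 = x := by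
  let : Field K := (isField_of hK (by norm_num)).toField
  have : Module.Finite F K := Module.finite_of_finrank_pos (by rw [hK.finrank_eq]; norm_num)
  have : Finite K := Module.finite_of_finite F
  have := Fintype.ofFinite K
  rw [← card_K hF hq hσ hf hK, Nat.card_eq_fintype_card]
  exact FiniteField.pow_card x

/-- The adjoint is the involutive power map. -/
theorem bar_eq (x : K) : G.bar x = x ^ q ^ 3 := by
  let : Field K := (isField_of hK (by norm_num)).toField
  have : Module.Finite F K := Module.finite_of_finrank_pos (by rw [hK.finrank_eq]; norm_num)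
  have : Finite K := Module.finite_of_finite F
  obtain ⟨p, hp⟩ := CharP.exists F
  have hpr : p.Prime := CharP.char_is_prime F p
  have : Fact p.Prime := ⟨hpr⟩
  have : CharP K p := charP_of_injective_algebraMap (algebraMap F K).injective p
  obtain ⟨m, -, hm⟩ := FiniteField.card F p
  obtain ⟨j, -, hj⟩ := (Nat.dvd_prime_pow hpr).1 (show q ∣ p ^ (m : ℕ) from hm ▸ hF ▸ dvd_pow_self q two_ne_zero)
  have hadd : ∀ a b : K, (a + b) ^ q ^ 3 = a ^ q ^ 3 + b ^ q ^ 3 := fun a b => by
    rw [hj, ← pow_mul]; exact add_pow_char_pow a b p _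
  have hfix : ∀ c : F, c ^ q ^ 3 = σ c := fun c => by
    rw [hσ, show q ^ 3 = q ^ 2 * q by ring, pow_mul, ← hF, FiniteField.pow_card]
  let τ : K →ₐ[F] K :=
    { toFun := fun y => G.bar (y ^ q ^ 3)
      map_one' := by simp
      map_mul' := fun a b => by rw [mul_pow, map_mul]
      map_zero' := by rw [zero_pow (pow_ne_zero _ (by omega)), map_zero]
      map_add' := fun a b => by rw [hadd, map_add]
      commutes' := fun c => by
        show G.bar (algebraMap F K c ^ q ^ 3) = _
        rw [← map_pow (algebraMap F K), hfix, Herm.bar_algebraMap (setting hf hK) G, hf.involutive] }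
  let τ' : K ≃ₐ[F] K := AlgEquiv.ofBijective τ (Algebra.IsAlgebraic.algHom_bijective τ)
  have h2 : τ' ^ 2 = 1 := AlgEquiv.ext fun y => by
    rw [sq, AlgEquiv.mul_apply]
    show G.bar (G.bar (y ^ q ^ 3) ^ q ^ 3) = y
    rw [← map_pow, Herm.bar_bar (setting hf hK) G, ← pow_mul, ← pow_add, pow_card_K hF hq hσ hf hK]
  have h3 : τ' ^ 3 = 1 := by
    have hc := IsGalois.card_aut_eq_finrank F K
    rw [hK.finrank_eq] at hc
    have := pow_card_eq_one' (x := τ')
    rwa [hc] at this
  have h1 : τ' = 1 := by rwa [pow_succ, h2, one_mul] at h3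
  have hτ : ∀ y : K, G.bar (y ^ q ^ 3) = y := fun y => AlgEquiv.congr_fun h1 y
  calc G.bar x = G.bar ((x ^ q ^ 3) ^ q ^ 3) := by
        rw [← pow_mul, ← pow_add, pow_card_K hF hq hσ hf hK]
    _ = x ^ q ^ 3 := hτ _

/-- The determinant of an element of the field is its norm. -/
theorem det_eq (x : K) :
    algebraMap F K (x : Matrix (Fin 3) (Fin 3) F).det = x ^ (q ^ 4 + q ^ 2 + 1) := by
  let : Field K := (isField_of hK (by norm_num)).toField
  have : Module.Finite F K := Module.finite_of_finrank_pos (by rw [hK.finrank_eq]; norm_num)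
  have : Finite K := Module.finite_of_finite F
  have hv : (Pi.single (0 : Fin 3) (1 : F) : Fin 3 → F) ≠ 0 := by simp
  set e := SingerElusive.toVec hK hv
  have hdet : (x : Matrix (Fin 3) (Fin 3) F).det = Algebra.norm F x := by
    rw [Algebra.norm_apply, ← LinearMap.det_conj (Algebra.lmul F K x) e, ← LinearMap.det_toLin']
    congr 1
    refine LinearMap.ext fun w => ?_
    obtain ⟨k, rfl⟩ := e.surjective w
    simp only [LinearMap.coe_comp, Function.comp_apply, LinearEquiv.coe_coe, e.symm_apply_apply,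
      Matrix.toLin'_apply]
    rw [SingerElusive.toVec_apply, SingerElusive.toVec_apply, Matrix.mulVec_mulVec]
    rfl
  rw [hdet, FiniteField.algebraMap_norm_eq_pow_sum, hK.finrank_eq, Nat.card_eq_fintype_card, hF]
  congr 1
  simp [Finset.sum_range_succ, ← pow_mul]
  ring

/-- The elements of the field in the special unitary group. -/
theorem mem_iff {g : GL (Fin 3) F} (hgK : g.val ∈ K) :
    g ∈ GU 3 F q ⊓ Geo.specialLinear (Fin 3) F ↔ g ^ (q ^ 2 - q + 1) = 1 := by
  obtain ⟨e1, e2, e3⟩ := exp_facts hq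
  set x : K := ⟨g.val, hgK⟩
  have hpow : ∀ n : ℕ, g ^ n = 1 ↔ x ^ n = 1 := fun n => by
    rw [Subtype.ext_iff, Units.ext_iff, Units.val_pow_eq_pow_val]
    simp [x]
  have hiso : g ∈ GU 3 F q ↔ x ^ (q ^ 3 + 1) = 1 := by
    rw [pow_succ, ← bar_eq hF hq hσ hf hK G]
    constructor
    · intro hg
      refine Subtype.ext (Matrix.ext_of_mulVec_single fun i => ?_)
      by_contra hne
      obtain ⟨w, hw⟩ := (hf.nondegenerate _ (sub_ne_zero.mpr hne)).1
      refine hw ?_
      rw [hsub_right hf, Subalgebra.coe_mul, ← Matrix.mulVec_mulVec, ← G.adj]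
      show (hermForm 3 F q) (g.val *ᵥ w) (g.val *ᵥ _) - _ = 0
      rw [show (hermForm 3 F q) (g.val *ᵥ w) (g.val *ᵥ Pi.single i 1) = (hermForm 3 F q) w (Pi.single i 1) from hg _ _]
      rw [sub_eq_zero, Subalgebra.coe_one, Matrix.one_mulVec]
    · intro h u v
      show (hermForm 3 F q) (g.val *ᵥ u) (g.val *ᵥ v) = _
      rw [show g.val = (x : Matrix (Fin 3) (Fin 3) F) from rfl, G.adj, Matrix.mulVec_mulVec,
        ← Subalgebra.coe_mul, h]
      simp
  have hdet : g ∈ Geo.specialLinear (Fin 3) F ↔ x ^ (q ^ 4 + q ^ 2 + 1) = 1 := by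
    let : Field K := (isField_of hK (by norm_num)).toField
    rw [← det_eq hF hq hσ hf hK G, Geo.specialLinear, MonoidHom.mem_ker, Units.ext_iff,
      map_eq_one_iff _ (algebraMap F K).injective]
    rfl
  rw [Subgroup.mem_inf, hiso, hdet, hpow, ← e3]
  constructor
  · exact fun h => pow_gcd_eq_one.2 h
  · intro h
    rw [e3] at h
    exact ⟨by rw [← e1, pow_mul, h, one_pow], by rw [← e2, pow_mul, h, one_pow]⟩

theorem exists_torus' : ∃ g : GL (Fin 3) F, g ∈ GU 3 F q ⊓ Geo.specialLinear (Fin 3) F ∧ g.val ∈ K ∧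
    orderOf g = q ^ 2 - q + 1 ∧
    ∀ x ∈ GU 3 F q ⊓ Geo.specialLinear (Fin 3) F, x.val ∈ K → x ∈ Subgroup.zpowers g := by
  let : Field K := (isField_of hK (by norm_num)).toField
  have : Module.Finite F K := Module.finite_of_finrank_pos (by rw [hK.finrank_eq]; norm_num)
  have : Finite K := Module.finite_of_finite F
  obtain ⟨e1, e2, e3⟩ := exp_facts hq
  set N := q ^ 2 - q + 1
  have hN0 : N ≠ 0 := by omega
  obtain ⟨u, hu⟩ := IsCyclic.exists_ofOrder_eq_natCard (α := Kˣ)
  have hcu : Nat.card Kˣ = q ^ 6 - 1 := by rw [Nat.card_units, card_K hF hq hσ hf hK]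
  have hdvd : N ∣ q ^ 6 - 1 := by
    refine ⟨(q + 1) * (q ^ 3 - 1), ?_⟩
    have h1 : 1 ≤ q ^ 3 := Nat.one_le_pow _ _ (by omega)
    rw [← mul_assoc, e1]
    zify [h1, Nat.one_le_pow 6 q (by omega)]
    ring
  set g₀ : Kˣ := u ^ ((q ^ 6 - 1) / N)
  have hg₀ : orderOf g₀ = N := by
    rw [orderOf_pow' _ ?_, hu, hcu, Nat.gcd_eq_right (Nat.div_dvd_of_dvd hdvd),
      Nat.div_div_self hdvd (by have := Nat.one_lt_pow (by norm_num : (6:ℕ) ≠ 0) (by omega : 1 < q); omega)]
    exact (Nat.div_pos (Nat.le_of_dvd (by have := Nat.one_lt_pow (by norm_num : (6:ℕ) ≠ 0) (by omega : 1 < q); omega) hdvd) (by omega)).ne'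
  let E : Kˣ →* GL (Fin 3) F := Units.map (K.val : K →* Matrix (Fin 3) (Fin 3) F)
  have hE : Function.Injective E := Units.map_injective Subtype.val_injective
  refine ⟨E g₀, (mem_iff hF hq hσ hf hK G (g₀.val).2).2 ?_, (g₀.val).2,
    by rw [orderOf_injective _ hE, hg₀], fun x hx hxK => ?_⟩
  · show E g₀ ^ N = 1
    rw [← map_pow, ← hg₀, pow_orderOf_eq_one, map_one]
  · have hxN := (mem_iff hF hq hσ hf hK G hxK).1 hx
    have hx0 : (⟨x.val, hxK⟩ : K) ≠ 0 := fun h => Units.ne_zero x (congrArg Subtype.val h)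
    set y : Kˣ := Units.mk0 _ hx0
    have hEy : E y = x := Units.ext rfl
    have hy : y ^ N = 1 := hE (by rw [map_pow, hEy, hxN, map_one])
    have hmem : y ∈ Subgroup.zpowers g₀ := by
      have : (powMonoidHom N : Kˣ →* Kˣ).ker = Subgroup.zpowers g₀ := by
        refine (Subgroup.eq_of_le_of_card_ge ?_ ?_).symm
        · rw [Subgroup.zpowers_le, MonoidHom.mem_ker, powMonoidHom_apply, ← hg₀, pow_orderOf_eq_one]
        · rw [Nat.card_zpowers, hg₀, IsCyclic.card_powMonoidHom_ker, hcu, Nat.gcd_eq_right hdvd]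
      rw [← this]; exact hy
    obtain ⟨k, hk⟩ := Subgroup.mem_zpowers_iff.1 hmem
    exact Subgroup.mem_zpowers_iff.2 ⟨k, by rw [← map_zpow, hk, hEy]⟩

/-- An element of the normaliser outside the field. -/
theorem exists_outside : ∃ g : GL (Fin 3) F,
    g ∈ Geo.subalgebraNormalizer K ⊓ (GU 3 F q ⊓ Geo.specialLinear (Fin 3) F) ∧ g.val ∉ K := by
  let : Field K := (isField_of hK (by norm_num)).toField
  have : Module.Finite F K := Module.finite_of_finrank_pos (by rw [hK.finrank_eq]; norm_num)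
  have : Finite K := Module.finite_of_finite F
  obtain ⟨e1, e2, e3⟩ := exp_facts hq
  have S := setting hf hK
  obtain ⟨ω, hω⟩ := IsCyclic.exists_ofOrder_eq_natCard (α := Kˣ)
  have hcu : Nat.card Kˣ = q ^ 6 - 1 := by rw [Nat.card_units, card_K hF hq hσ hf hK]
  have h1 : 1 ≤ q ^ 3 := Nat.one_le_pow _ _ (by omega)
  have hsplit : q ^ 6 - 1 = (q ^ 3 + 1) * (q ^ 3 - 1) := by
    zify [h1, Nat.one_le_pow 6 q (by omega)]; ring
  have hq3 : 1 < q ^ 3 := Nat.one_lt_pow (by norm_num) (by omega)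
  have hrange : ∀ a b : ℕ, (q ^ 6 - 1) = a * b → 0 < b → ∀ y : Kˣ, y ^ b = 1 → ∃ l : Kˣ, l ^ a = y := by
    intro a b hab hb y hy
    obtain ⟨k, rfl⟩ : y ∈ Submonoid.powers ω := by
      rw [mem_powers_iff_mem_zpowers, Subgroup.eq_top_of_card_eq (Subgroup.zpowers ω) (by
        rw [Nat.card_zpowers, hω])]
      trivial
    rw [← pow_mul, ← orderOf_dvd_iff_pow_eq_one, hω, hcu, hab] at hy
    obtain ⟨t, rfl⟩ := Nat.dvd_of_mul_dvd_mul_right hb hy
    exact ⟨ω ^ t, by rw [← pow_mul, mul_comm]⟩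
  -- a vector of norm one
  set v₀ : Fin 3 → F := Pi.single 0 1
  have hv₀ : v₀ ≠ 0 := by simp [v₀]
  have hc0 : G.phi v₀ v₀ ≠ 0 := by
    intro h0
    obtain ⟨y, hy⟩ := (hf.nondegenerate v₀ hv₀).1
    obtain ⟨k, rfl⟩ := (SingerElusive.toVec hK hv₀).surjective y
    rw [SingerElusive.toVec_apply] at hy
    exact hy (by rw [← G.spec v₀ k v₀, h0, mul_zero, map_zero])
  obtain ⟨l, hl⟩ : ∃ l : Kˣ, l ^ (q ^ 3 + 1) = (Units.mk0 _ hc0)⁻¹ := by
    refine hrange _ _ hsplit (by omega) _ ?_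
    have hbar : G.phi v₀ v₀ ^ q ^ 3 = G.phi v₀ v₀ := by
      rw [← bar_eq hF hq hσ hf hK G]; exact (Herm.phi_swap S G v₀ v₀).symm
    rw [inv_pow, inv_eq_one]
    refine Units.ext (mul_left_cancel₀ hc0 ?_)
    rw [Units.val_pow_eq_pow_val, Units.val_one, mul_one, Units.val_mk0, ← pow_succ',
      Nat.sub_add_cancel h1, hbar]
  set v : Fin 3 → F := ev K v₀ (l : K) with hv
  have hv0 : v ≠ 0 := fun h => l.ne_zero (ev_injective (r := 3) hK hv₀ (h.trans (map_zero _).symm))
  have hone : G.phi v v = 1 := by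
    rw [hv, Herm.phi_ev_left S G, ev_apply, G.klin, bar_eq hF hq hσ hf hK G, ← mul_assoc, ← pow_succ]
    rw [← Units.val_pow_eq_pow_val, hl, Units.val_inv_eq_inv_val, Units.val_mk0, inv_mul_cancel₀ hc0]
  -- the Galois element
  set τ := FiniteField.frobeniusAlgEquivOfAlgebraic F K
  have hτ : ∀ y : K, τ y = y ^ q ^ 2 := fun y => by
    rw [← hF]; rfl
  have hne : τ ≠ 1 := fun h => by
    have := FiniteField.orderOf_frobeniusAlgEquivOfAlgebraic F K
    rw [show FiniteField.frobeniusAlgEquivOfAlgebraic F K = 1 from h, orderOf_one, hK.finrank_eq] at this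
    omega
  set e := SingerElusive.toVec hK hv0
  let L : (Fin 3 → F) ≃ₗ[F] (Fin 3 → F) := e.symm.trans (τ.toLinearEquiv.trans e)
  have hL : ∀ k : K, L (e k) = e (τ k) := fun k => by simp [L]
  let s : GL (Fin 3) F :=
    ⟨LinearMap.toMatrix' L.toLinearMap, LinearMap.toMatrix' L.symm.toLinearMap, by
      rw [← LinearMap.toMatrix'_comp, show L.toLinearMap.comp L.symm.toLinearMap = LinearMap.id from
        LinearMap.ext fun x => L.apply_symm_apply x, LinearMap.toMatrix'_id], by
      rw [← LinearMap.toMatrix'_comp, show L.symm.toLinearMap.comp L.toLinearMap = LinearMap.id from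
        LinearMap.ext fun x => L.symm_apply_apply x, LinearMap.toMatrix'_id]⟩
  have hs : ∀ w, s.val *ᵥ w = L w := fun w => LinearMap.toMatrix'_mulVec L.toLinearMap w
  have hform : ∀ a b : K, (hermForm 3 F q) (e a) (e b) = Algebra.trace F K (G.bar b * a) := fun a b => by
    rw [SingerElusive.toVec_apply, SingerElusive.toVec_apply,
      show b = G.bar (G.bar b) from (Herm.bar_bar S G b).symm, ← G.adj, Herm.bar_bar S G,
      Matrix.mulVec_mulVec, ← Subalgebra.coe_mul, ← G.spec v (G.bar b * a) v, hone, mul_one]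
    rfl
  have hsiso : s ∈ GU 3 F q := by
    intro u w
    obtain ⟨a, rfl⟩ := e.surjective u
    obtain ⟨b, rfl⟩ := e.surjective w
    show (hermForm 3 F q) (s.val *ᵥ e a) (s.val *ᵥ e b) = _
    rw [hs, hs, hL, hL, hform, hform]
    rw [show G.bar (τ b) * τ a = τ (G.bar b * a) from by
      rw [map_mul, bar_eq hF hq hσ hf hK G, bar_eq hF hq hσ hf hK G, map_pow]]
    exact (Algebra.trace_eq_of_algEquiv τ _).symm ▸ rfl
  have hcomm : ∀ k : K, s.val * (k : Matrix (Fin 3) (Fin 3) F) = (τ k : Matrix (Fin 3) (Fin 3) F) * s.val := fun k =>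
    Matrix.ext_of_mulVec_single fun i => by
      obtain ⟨a, ha⟩ := e.surjective (Pi.single i 1)
      rw [← ha, ← Matrix.mulVec_mulVec, ← Matrix.mulVec_mulVec, hs, hs]
      have he : ∀ k a : K, (k : Matrix (Fin 3) (Fin 3) F) *ᵥ e a = e (k * a) := fun k a => by
        rw [SingerElusive.toVec_apply, SingerElusive.toVec_apply, Matrix.mulVec_mulVec]; rfl
      rw [he, hL, hL, map_mul, he]
  have hsK : s.val ∉ K := fun h => hne (AlgEquiv.ext fun k => by
    have h' := hcomm k
    rw [hK.comm _ h _ k.2] at h'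
    exact Subtype.ext (s.isUnit.mul_right_cancel h'.symm))
  have hsN : s ∈ Geo.subalgebraNormalizer K := by
    intro k
    constructor
    · intro hk
      rw [hcomm ⟨k, hk⟩, mul_assoc, Units.mul_inv, mul_one]
      exact (τ ⟨k, hk⟩).2
    · intro hk
      have h2 := hcomm (τ.symm ⟨_, hk⟩)
      rw [τ.apply_symm_apply] at h2
      simp only [Units.inv_mul_cancel_right] at h2
      exact (s.isUnit.mul_left_cancel h2) ▸ (τ.symm ⟨_, hk⟩).2
  -- correct the determinant
  have hd : (algebraMap F K s.val.det) ^ (q + 1) = 1 := by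
    have hd' : s.val.det ^ (q + 1) = 1 := by
      have hiso := hsiso
      have hm : s.valᵀ * (s.val.map σ) = 1 := by
        ext i j
        have h := hiso (Pi.single i 1) (Pi.single j 1)
        simp only [hermForm, Matrix.mulVec_single_one, Units.coeHom_apply, Matrix.col_apply] at h
        rw [Matrix.mul_apply, Matrix.one_apply]
        simp only [Matrix.transpose_apply, Matrix.map_apply, hσ]
        rw [h]
        simp [Pi.single_apply, ite_pow, zero_pow (show q ≠ 0 by omega), eq_comm]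
      have := congrArg Matrix.det hm
      rw [Matrix.det_mul, Matrix.det_transpose, Matrix.det_one] at this
      have hmap : (s.val.map σ).det = σ s.val.det := (RingEquiv.map_det σ s.val).symm
      rw [hmap, hσ, ← pow_succ'] at this
      exact this
    rw [← map_pow, hd', map_one]
  set D := q ^ 4 + q ^ 2 + 1
  have hdet0 : algebraMap F K s.val.det ≠ 0 :=
    (map_ne_zero _).2 ((Matrix.isUnit_iff_isUnit_det _).1 s.isUnit).ne_zero
  set y : Kˣ := (Units.mk0 _ hdet0)⁻¹ with hy
  have hy1 : y ^ (q + 1) = 1 := by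
    rw [hy, inv_pow, inv_eq_one]; exact Units.ext (by simpa using hd)
  obtain ⟨w, hw⟩ : ∃ w : Kˣ, w ^ ((q ^ 3 - 1) * (q ^ 2 - q + 1)) = y :=
    hrange _ (q + 1) (by rw [hsplit, mul_assoc, e1, mul_comm]) (by omega) _ hy1
  set m := w ^ (q ^ 3 - 1)
  have hmD' : m ^ D = y := by
    rw [← pow_mul, ← e2, ← mul_assoc, pow_mul, hw,
      show q ^ 2 + q + 1 = 1 + (q + 1) * q by ring, pow_add, pow_one, pow_mul, hy1, one_pow, mul_one]
  have hmD : algebraMap F K ((m : K) : Matrix (Fin 3) (Fin 3) F).det = (algebraMap F K s.val.det)⁻¹ := by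
    rw [det_eq hF hq hσ hf hK G, ← Units.val_pow_eq_pow_val, hmD', hy, Units.val_inv_eq_inv_val]
    rfl
  have hm1 : (m : K) ^ (q ^ 3 + 1) = 1 := by
    rw [← Units.val_pow_eq_pow_val, ← pow_mul, mul_comm, ← hsplit, ← hcu, pow_card_eq_one', Units.val_one]
  let mg : GL (Fin 3) F := Units.map (K.val : K →* Matrix (Fin 3) (Fin 3) F) m
  have hmgK : mg.val ∈ K := (m : K).2
  have hmN : mg ∈ Geo.subalgebraNormalizer K := fun k => by
    have hinv : ((mg⁻¹ : GL (Fin 3) F) : Matrix (Fin 3) (Fin 3) F) = ((m⁻¹ : Kˣ) : K) := rfl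
    rw [hinv]
    constructor
    · exact fun hk => K.mul_mem (K.mul_mem hmgK hk) ((m⁻¹ : Kˣ) : K).2
    · intro hk
      have := K.mul_mem (K.mul_mem ((m⁻¹ : Kˣ) : K).2 hk) hmgK
      rw [← hinv] at this
      simpa [mul_assoc] using this
  refine ⟨mg * s, ⟨mul_mem hmN hsN, mul_mem ?_ hsiso, ?_⟩, fun h => hsK ?_⟩
  · intro u w
    show (hermForm 3 F q) ((m : K).val *ᵥ u) ((m : K).val *ᵥ w) = _
    rw [G.adj, Matrix.mulVec_mulVec, ← Subalgebra.coe_mul, bar_eq hF hq hσ hf hK G, ← pow_succ, hm1]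
    simp
  · show GeneralLinearGroup.det (mg * s) = 1
    rw [map_mul, Units.ext_iff]
    refine (algebraMap F K).injective ?_
    show algebraMap F K (mg.val.det * s.val.det) = _
    rw [map_mul, show mg.val = ((m : K) : Matrix (Fin 3) (Fin 3) F) from rfl, hmD, inv_mul_cancel₀ hdet0]
    simp
  · have := K.mul_mem ((m⁻¹ : Kˣ) : K).2 h
    rw [Units.val_mul, ← mul_assoc, show ((m⁻¹ : Kˣ) : K).val * mg.val = 1 from
      (Units.map (K.val : K →* Matrix (Fin 3) (Fin 3) F) m).inv_mul, one_mul] at this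
    exact this

theorem card_normalizer' :
    Nat.card ↥(Geo.subalgebraNormalizer K ⊓ (GU 3 F q ⊓ Geo.specialLinear (Fin 3) F)) =
      3 * (q ^ 2 - q + 1) := by
  let : Field K := (isField_of hK (by norm_num)).toField
  have : Module.Finite F K := Module.finite_of_finrank_pos (by rw [hK.finrank_eq]; norm_num)
  have : Finite K := Module.finite_of_finite F
  obtain ⟨g, hgG, hgK, hgo, hgtop⟩ := exists_torus' hF hq hσ hf hK G
  set H := Geo.subalgebraNormalizer K ⊓ (GU 3 F q ⊓ Geo.specialLinear (Fin 3) F)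
  have hN : ∀ (h : H) (k : K), (h.1.val * (k : Matrix (Fin 3) (Fin 3) F) *
      ((h.1⁻¹ : GL (Fin 3) F) : Matrix (Fin 3) (Fin 3) F)) ∈ K := fun h k => (h.2.1 k).1 k.2
  let c : H → (K →ₐ[F] K) := fun h =>
    { toFun := fun k => ⟨_, hN h k⟩
      map_one' := Subtype.ext (by simp)
      map_mul' := fun a b => Subtype.ext (by simp only [Subalgebra.coe_mul, mul_assoc, Units.inv_mul_cancel_left])
      map_zero' := Subtype.ext (by simp)
      map_add' := fun a b => Subtype.ext (by simp [mul_add, add_mul])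
      commutes' := fun r => Subtype.ext (by
        simp [Algebra.algebraMap_eq_smul_one]) }
  let π : H →* (K ≃ₐ[F] K) :=
    { toFun := fun h => AlgEquiv.ofBijective (c h) (Algebra.IsAlgebraic.algHom_bijective (c h))
      map_one' := AlgEquiv.ext fun k => Subtype.ext (by simp [c])
      map_mul' := fun a b => AlgEquiv.ext fun k => Subtype.ext (by
        show (a * b).1.val * _ * _ = a.1.val * (b.1.val * _ * _) * _
        simp [mul_assoc]) }
  have hπ : ∀ h : H, π h = 1 ↔ h.1.val ∈ K := fun h => by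
    constructor
    · intro e
      refine SingerElusive.mem_of_centralize hK fun k hk => ?_
      have e' : h.1.val * k * ((h.1⁻¹ : GL (Fin 3) F) : Matrix (Fin 3) (Fin 3) F) = k :=
        congrArg Subtype.val (AlgEquiv.congr_fun e ⟨k, hk⟩)
      calc h.1.val * k = h.1.val * k * ((h.1⁻¹ : GL (Fin 3) F) : Matrix (Fin 3) (Fin 3) F) * h.1.val := by
            rw [Units.inv_mul_cancel_right]
        _ = k * h.1.val := by rw [e']
    · intro hh
      refine AlgEquiv.ext fun k => Subtype.ext ?_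
      show h.1.val * _ * _ = _
      rw [hK.comm _ hh _ k.2, mul_assoc, Units.mul_inv, mul_one]
      rfl
  have hker : π.ker.map H.subtype = Subgroup.zpowers g := by
    ext x
    constructor
    · rintro ⟨h, hh, rfl⟩
      exact hgtop _ h.2.2 ((hπ h).1 hh)
    · intro hx
      obtain ⟨n, rfl⟩ : x ∈ Submonoid.powers g := mem_powers_iff_mem_zpowers.2 hx
      have hK' : (g ^ n).val ∈ K := by rw [Units.val_pow_eq_pow_val]; exact K.pow_mem hgK n
      refine ⟨⟨g ^ n, ?_, pow_mem hgG n⟩, (hπ _).2 hK', rfl⟩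
      refine pow_mem (show g ∈ Geo.subalgebraNormalizer K from fun k => ?_) n
      have hgi : ((g⁻¹ : GL (Fin 3) F) : Matrix (Fin 3) (Fin 3) F) ∈ K := by
        have hlt : 0 < orderOf g := orderOf_pos g
        rw [show g⁻¹ = g ^ (orderOf g - 1) from inv_eq_of_mul_eq_one_right (by
          rw [← pow_succ', Nat.sub_add_cancel hlt, pow_orderOf_eq_one]), Units.val_pow_eq_pow_val]
        exact K.pow_mem hgK _
      constructor
      · exact fun hk => K.mul_mem (K.mul_mem hgK hk) hgi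
      · intro hk
        have := K.mul_mem (K.mul_mem hgi hk) hgK
        simpa [mul_assoc] using this
  have hkc : Nat.card π.ker = q ^ 2 - q + 1 := by
    rw [← Subgroup.card_map_of_injective H.subtype_injective, hker, Nat.card_zpowers, hgo]
  have hc3 : Nat.card (K ≃ₐ[F] K) = 3 := by rw [IsGalois.card_aut_eq_finrank, hK.finrank_eq]
  obtain ⟨s, hsH, hsK⟩ := exists_outside hF hq hσ hf hK G
  have hrange : π.range = ⊤ := by
    have : Fact (Nat.card (K ≃ₐ[F] K)).Prime := ⟨by rw [hc3]; norm_num⟩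
    rcases π.range.eq_bot_or_eq_top_of_prime_card with h | h
    · have : π ⟨s, hsH⟩ ∈ π.range := ⟨_, rfl⟩
      rw [h, Subgroup.mem_bot] at this
      exact absurd ((hπ _).1 this) hsK
    · exact h
  rw [← Subgroup.card_mul_index π.ker, hkc, Subgroup.index_ker, hrange, Subgroup.card_top, hc3, mul_comm]

omit hσ hf G in
theorem exists_torus (hac : Geo.IsAdjointClosedFor (hermForm 3 F q) K) : ∃ g : GL (Fin 3) F,
    g ∈ GU 3 F q ⊓ Geo.specialLinear (Fin 3) F ∧ g.val ∈ K ∧ orderOf g = q ^ 2 - q + 1 ∧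
    ∀ x ∈ GU 3 F q ⊓ Geo.specialLinear (Fin 3) F, x.val ∈ K → x ∈ Subgroup.zpowers g := by
  obtain ⟨σ, hσ, hf⟩ := HermStab.exists_setup (n := 3) hF
  obtain ⟨G⟩ := Herm.exists_data hf hK Nat.prime_three hac
  exact exists_torus' hF hq hσ hf hK G

omit hσ hf G in
theorem card_normalizer (hac : Geo.IsAdjointClosedFor (hermForm 3 F q) K) :
    Nat.card ↥(Geo.subalgebraNormalizer K ⊓ (GU 3 F q ⊓ Geo.specialLinear (Fin 3) F)) =
      3 * (q ^ 2 - q + 1) := by
  obtain ⟨σ, hσ, hf⟩ := HermStab.exists_setup (n := 3) hF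
  obtain ⟨G⟩ := Herm.exists_data hf hK Nat.prime_three hac
  exact card_normalizer' hF hq hσ hf hK G

end Cfsg.Agent.SU3Geo98.Singer.Torus
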