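import Cfsg.Agent.SU3Geo98.Singer.Character
import Cfsg.Agent.SU3Geo98.Lift

/-!
The character bound for a subgroup of `GL (3, F)` of order prime to the characteristic: lift to
`ℂ`, carrying the eigenvalue data along.
-/

set_option autoImplicit false

namespace Cfsg.Agent.SU3Geo98.Singer

open Matrix Polynomial

/-- A homomorphism to an algebraically closed field extends to integral elements of `ℂ`. -/
theorem exists_extension {O F K : Type*} [CommRing O] [Field F] [Field K] [IsAlgClosed K]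
    (π : O →+* F) (hπ : Function.Surjective π) (ι : O →+* ℂ) (hι : Function.Injective ι)
    (j : F →+* K) :
    ∃ (R : Subring ℂ) (ev : R →+* K), (∀ z : ℂ, (letI := ι.toAlgebra; IsIntegral O z) → z ∈ R) ∧
      (∀ a : O, ∃ h : ι a ∈ R, ev ⟨ι a, h⟩ = j (π a)) := by
  letI := ι.toAlgebra
  let R := integralClosure O ℂ
  have hmax : (RingHom.ker π).IsMaximal := RingHom.ker_isMaximal_of_surjective π hπ
  have hinj : Function.Injective (algebraMap O R) := fun a b h => hι (congrArg Subtype.val h)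
  obtain ⟨Q, hQ, hQc⟩ := Ideal.exists_ideal_over_maximal_of_isIntegral (S := R) (RingHom.ker π)
    (by rw [(RingHom.injective_iff_ker_eq_bot _).1 hinj]; exact bot_le)
  letI := Ideal.Quotient.field Q
  let e : F →+* R ⧸ Q := RingHom.liftOfSurjective π hπ
    ⟨(Ideal.Quotient.mk Q).comp (algebraMap O R), fun a ha => by
      rw [← hQc] at ha
      exact Ideal.Quotient.eq_zero_iff_mem.2 ha⟩
  have he : ∀ a, e (π a) = Ideal.Quotient.mk Q (algebraMap O R a) := fun a =>
    RingHom.liftOfSurjective_comp_apply π hπ _ a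
  letI := e.toAlgebra
  letI := j.toAlgebra
  have : Algebra.IsAlgebraic F (R ⧸ Q) := by
    refine ⟨fun y => ?_⟩
    obtain ⟨r, rfl⟩ := Ideal.Quotient.mk_surjective y
    obtain ⟨P, hP, hP0⟩ := (Algebra.IsIntegral.isIntegral (R := O) r)
    refine IsIntegral.isAlgebraic ⟨P.map π, hP.map π, ?_⟩
    rw [Polynomial.eval₂_map, show (algebraMap F (R ⧸ Q)).comp π =
      (Ideal.Quotient.mk Q).comp (algebraMap O R) from RingHom.ext he, ← Polynomial.hom_eval₂,
      hP0, map_zero]
  let l : (R ⧸ Q) →ₐ[F] K := IsAlgClosed.lift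
  refine ⟨R.toSubring, l.toRingHom.comp (Ideal.Quotient.mk Q), fun z hz => hz, fun a =>
    ⟨(algebraMap O R a).2, ?_⟩⟩
  show l (Ideal.Quotient.mk Q (algebraMap O R a)) = j (π a)
  rw [← he]
  exact l.commutes (π a)

/-- The eigenvalues of a lift. -/
theorem exists_roots_of_lift {O F K : Type*} [CommRing O] [Field F] [Field K] [IsAlgClosed K]
    (π : O →+* F) (hπ : Function.Surjective π) (ι : O →+* ℂ) (hι : Function.Injective ι)
    (j : F →+* K) (A : Matrix (Fin 3) (Fin 3) O) (lam : Fin 3 → K)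
    (hlam : (A.map π).charpoly.map j = ∏ i, (X - Polynomial.C (lam i)))
    (hrat : ∀ i j k l, lam i * lam k = lam j * lam l → (i = j ∧ k = l) ∨ (i = l ∧ k = j)) :
    ∃ μ : Fin 3 → ℂ, (A.map ι).charpoly = ∏ i, (X - Polynomial.C (μ i)) ∧
      ∀ i j k l, μ i * μ k = μ j * μ l → (i = j ∧ k = l) ∨ (i = l ∧ k = j) := by
  classical
  have hsplit : (A.map ι).charpoly.Splits := IsAlgClosed.splits _
  have hcard : (A.map ι).charpoly.roots.card = 3 := by
    rw [← hsplit.natDegree_eq_card_roots, Matrix.charpoly_natDegree_eq_dim, Fintype.card_fin]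
  obtain ⟨a, b, c, habc⟩ := Multiset.card_eq_three.1 hcard
  have hμ : (A.map ι).charpoly = ∏ i, (X - Polynomial.C (![a, b, c] i)) := by
    conv_lhs => rw [hsplit.eq_prod_roots_of_monic (Matrix.charpoly_monic _), habc]
    simp [Fin.prod_univ_three, mul_assoc]
  obtain ⟨R, ev, hR, hev⟩ := exists_extension π hπ ι hι j
  have hmem : ∀ i, ![a, b, c] i ∈ R := fun i => hR _ (by
    letI := ι.toAlgebra
    refine ⟨A.charpoly, Matrix.charpoly_monic A, ?_⟩
    show Polynomial.eval₂ ι _ A.charpoly = 0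
    rw [← Polynomial.eval_map, ← Matrix.charpoly_map, hμ, Polynomial.eval_prod]
    exact Finset.prod_eq_zero (Finset.mem_univ i) (by simp))
  let ν : Fin 3 → R := fun i => ⟨![a, b, c] i, hmem i⟩
  let ι' : O →+* R := ι.codRestrict R fun o => (hev o).1
  have hν : A.charpoly.map ι' = ∏ i, (X - Polynomial.C (ν i)) := by
    refine Polynomial.map_injective R.subtype Subtype.val_injective ?_
    rw [Polynomial.map_map, show R.subtype.comp ι' = ι from RingHom.ext fun _ => rfl,
      ← Matrix.charpoly_map, hμ, Polynomial.map_prod]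
    simp [ν]
  have hK : ∏ i, (X - Polynomial.C (ev (ν i))) = ∏ i, (X - Polynomial.C (lam i)) := by
    rw [← hlam, Matrix.charpoly_map, Polynomial.map_map,
      show j.comp π = ev.comp ι' from RingHom.ext fun o => (hev o).2.symm, ← Polynomial.map_map,
      hν, Polynomial.map_prod]
    simp
  have hinj : Function.Injective lam := fun i i' h =>
    (hrat i i' i' i' (by rw [h])).elim And.left And.left
  have hex : ∀ k, ∃ i, ev (ν i) = lam k := fun k => by
    have h : Polynomial.eval (lam k) (∏ i, (X - Polynomial.C (ev (ν i)))) = 0 := by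
      rw [hK, Polynomial.eval_prod]
      exact Finset.prod_eq_zero (Finset.mem_univ k) (by simp)
    rw [Polynomial.eval_prod, Finset.prod_eq_zero_iff] at h
    obtain ⟨i, -, hi⟩ := h
    exact ⟨i, (sub_eq_zero.1 (by simpa using hi)).symm⟩
  choose σ hσ using hex
  have hσb : Function.Bijective σ := by
    rw [← Finite.injective_iff_bijective]
    intro k k' h
    exact hinj (by rw [← hσ k, ← hσ k', h])
  refine ⟨![a, b, c], hμ, fun i i' k k' h => ?_⟩
  obtain ⟨i, rfl⟩ := hσb.2 i
  obtain ⟨i', rfl⟩ := hσb.2 i'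
  obtain ⟨k, rfl⟩ := hσb.2 k
  obtain ⟨k', rfl⟩ := hσb.2 k'
  have h' : ν (σ i) * ν (σ k) = ν (σ i') * ν (σ k') := Subtype.ext h
  have h'' := congrArg ev h'
  rw [map_mul, map_mul, hσ, hσ, hσ, hσ] at h''
  rcases hrat _ _ _ _ h'' with ⟨e1, e2⟩ | ⟨e1, e2⟩
  · exact Or.inl ⟨congrArg σ e1, congrArg σ e2⟩
  · exact Or.inr ⟨congrArg σ e1, congrArg σ e2⟩

/-- A self-centralising cyclic subgroup with six distinct eigenvalue ratios in a subgroup of
`GL (3, F)` of order prime to the characteristic is normal or small. -/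
theorem normal_of_modular {p : ℕ} [Fact p.Prime] {F K : Type*} [Field F] [Finite F] [CharP F p]
    [Field K] [IsAlgClosed K] (j : F →+* K) {G : Type*} [Group G] [Finite G]
    (hG : ¬ p ∣ Nat.card G) (φ : G →* GL (Fin 3) F) (hφ : Function.Injective φ) (g : G)
    (Z : Subgroup G) (hZC : Z ≤ Subgroup.zpowers g)
    (hZ : ∀ z ∈ Z, ∃ c : F, (φ z).val = c • 1)
    (hcent : Subgroup.centralizer ({g} : Set G) ≤ Subgroup.zpowers g)
    (hN : Nat.card (Subgroup.normalizer (Subgroup.zpowers g : Set G)) =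
      3 * Nat.card (Subgroup.zpowers g))
    (hTI : ∀ x ∈ Subgroup.zpowers g, x ∉ Z → ∀ y, y * x * y⁻¹ ∈ Subgroup.zpowers g →
      y ∈ Subgroup.normalizer (Subgroup.zpowers g : Set G))
    (lam : Fin 3 → K) (hlam : (φ g).val.charpoly.map j = ∏ i, (X - Polynomial.C (lam i)))
    (hrat : ∀ i j k l, lam i * lam k = lam j * lam l → (i = j ∧ k = l) ∨ (i = l ∧ k = j))
    (hc : 13 * Nat.card Z < Nat.card (Subgroup.zpowers g)) :
    (Subgroup.zpowers g).Normal := by
  obtain ⟨O, _, π, ι, ψ, hι, hπ, hψφ, hscal⟩ := Lift.exists_lift_complex hG φ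
  have hmap : ∀ x : G, (ψ x).val.map π = (φ x).val := fun x => by rw [← hψφ]; rfl
  obtain ⟨μ, hμ, hμr⟩ := exists_roots_of_lift π hπ ι hι j (ψ g).val lam
    (by rw [hmap]; exact hlam) hrat
  refine normal_of_charpoly ((Matrix.GeneralLinearGroup.map ι).comp ψ) ?_ g Z hZC
    (fun z hz => ?_) hcent hN hTI μ hμ hμr hc
  · intro x y h
    refine hφ (Units.ext ?_)
    rw [← hmap, ← hmap, show (ψ x).val = (ψ y).val from ?_]
    ext r s
    have h' : (Matrix.GeneralLinearGroup.map ι (ψ x)).val =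
        (Matrix.GeneralLinearGroup.map ι (ψ y)).val := congrArg Units.val h
    exact hι (congr_fun (congr_fun h' r) s)
  · obtain ⟨c, hcz⟩ := hZ z hz
    obtain ⟨t, -, ht⟩ := hscal z c hcz
    refine ⟨ι t, ?_⟩
    show (ψ z).val.map ι = ι t • (1 : Matrix (Fin 3) (Fin 3) ℂ)
    rw [ht]
    ext r s
    rcases eq_or_ne r s with rfl | hrs <;> simp [*]

end Cfsg.Agent.SU3Geo98.Singer
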