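import Cfsg.Agent.SU3Geo98.Singer.Glue
import Cfsg.Agent.SU3Geo98.Singer.Bridge
import Cfsg.Agent.Aschbacher.UnitaryBasics

/-!
S5777 (4): the normaliser of an adjoint closed cubic field is maximal, given the torus, the transvection case and
the case of a unipotent element (helper60, for helper98).
-/

set_option autoImplicit false
set_option linter.unusedSectionVars false

namespace Cfsg.Agent.SU3Geo98.Singer

open Matrix Cfsg.Agent.MaxSub Cfsg.Agent.SU3Geo98.Singer.Glue
open scoped Classical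

variable {F : Type*} [Field F] [Fintype F] {K : Subalgebra F (Matrix (Fin 3) (Fin 3) F)}

/-- `q = 4`: a cyclic subgroup of order thirteen is normal. -/
theorem normal_of_four {G : Type*} [Group G] [Finite G] (h : Nat.card G ∣ 975) (C : Subgroup G)
    (hC : Nat.card C = 13) (hN : Nat.card (Subgroup.normalizer (C : Set G)) = 39) : C.Normal := by
  have : Fact (Nat.Prime 13) := ⟨by norm_num⟩
  have hidx : Nat.card C * C.index = Nat.card G := Subgroup.card_mul_index C
  have hp : ¬ 13 ∣ C.index := by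
    intro h13
    rw [hC] at hidx
    have : 169 ∣ Nat.card G := hidx ▸ Nat.mul_dvd_mul_left 13 h13
    exact absurd (this.trans h) (by norm_num)
  let P : Sylow 13 G := (IsPGroup.of_card (n := 1) (by rw [hC, pow_one])).toSylow hp
  have hP : (P : Subgroup G) = C := rfl
  have h1 : Nat.card (Sylow 13 G) ≡ 1 [MOD 13] := card_sylow_modEq_one 13 G
  have h2 : Nat.card (Sylow 13 G) = (Subgroup.normalizer (C : Set G)).index := by
    rw [Sylow.card_eq_index_normalizer P]; rfl
  have h3 : Nat.card (Subgroup.normalizer (C : Set G)) * (Subgroup.normalizer (C : Set G)).index = Nat.card G :=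
    Subgroup.card_mul_index _
  set n := (Subgroup.normalizer (C : Set G)).index
  rw [h2] at h1
  rw [hN] at h3
  have h4 : n ∣ 25 := Nat.dvd_of_mul_dvd_mul_left (by norm_num : 0 < 39) (by rw [h3]; exact h)
  have hn : n = 1 := by
    have hle := Nat.le_of_dvd (by norm_num) h4
    interval_cases n <;> revert h1 h4 <;> decide
  exact Subgroup.normalizer_eq_top_iff.mp (Subgroup.index_eq_one.mp hn)

/-- The assembly of clause (4). -/
theorem field_maximal_of {q : ℕ} (hF : Fintype.card F = q ^ 2) (hq : 3 ≤ q) (h3 : q ≠ 3) (h5 : q ≠ 5)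
    (hK : Geo.IsFieldSubalgebra 3 K)
    (htor : ∃ g : GL (Fin 3) F, g ∈ GU 3 F q ⊓ Geo.specialLinear (Fin 3) F ∧ g.val ∈ K ∧
      orderOf g = q ^ 2 - q + 1 ∧
      ∀ x ∈ GU 3 F q ⊓ Geo.specialLinear (Fin 3) F, x.val ∈ K → x ∈ Subgroup.zpowers g)
    (hcard : Nat.card ↥(Geo.subalgebraNormalizer K ⊓ (GU 3 F q ⊓ Geo.specialLinear (Fin 3) F)) =
      3 * (q ^ 2 - q + 1))
    (hcentre : ∀ {σ : F ≃+* F}, (∀ x, σ x = x ^ q) → Geo.IsUnitaryForm σ (hermForm 3 F q) →
      ∀ {M : Subgroup (GL (Fin 3) F)}, M ≤ HermStab.su (hermForm 3 F q) → ∀ {g : GL (Fin 3) F}, g ∈ M →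
      g.val ∈ K → orderOf g = q ^ 2 - q + 1 → ∀ {v : Fin 3 → F} {c : F}, v ≠ 0 →
      hermForm 3 F q v v = 0 → c ≠ 0 → c + σ c = 0 → ut (hermForm 3 F q) v c ∈ M →
      ∀ x, hermForm 3 F q x x = 0 → HermStab.Centre σ (hermForm 3 F q) M x)
    (hinvol : (2 : F) = 0 → ∀ {σ : F ≃+* F}, (∀ x, σ x = x ^ q) →
      Geo.IsUnitaryForm σ (hermForm 3 F q) → ∀ {M : Subgroup (GL (Fin 3) F)},
      M ≤ HermStab.su (hermForm 3 F q) → ∀ {d : GL (Fin 3) F}, d ∈ M → d ≠ 1 → d ^ 2 = 1 →
      ∃ v c, v ≠ 0 ∧ hermForm 3 F q v v = 0 ∧ c ≠ 0 ∧ c + σ c = 0 ∧ ut (hermForm 3 F q) v c ∈ M)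
    (hdiv : 7 ≤ q → Odd q → ∀ {σ : F ≃+* F}, (∀ x, σ x = x ^ q) →
      Geo.IsUnitaryForm σ (hermForm 3 F q) → ∀ {M : Subgroup (GL (Fin 3) F)},
      M ≤ HermStab.su (hermForm 3 F q) → (∀ g ∈ M, ¬ SL3Geo34.IsTransvec g) →
      ∀ {g : GL (Fin 3) F}, g ∈ M → g.val ∈ K → orderOf g = q ^ 2 - q + 1 →
      Nat.card ↥(M ⊓ Geo.subalgebraNormalizer K) = 3 * (q ^ 2 - q + 1) →
      3 * (q ^ 2 - q + 1) < Nat.card M → ∀ {p : ℕ} [CharP F p], p ∣ Nat.card M → False) :
    Geo.IsMaximalIn (GU 3 F q ⊓ Geo.specialLinear (Fin 3) F)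
      (Geo.subalgebraNormalizer K ⊓ (GU 3 F q ⊓ Geo.specialLinear (Fin 3) F)) := by
  obtain ⟨σ, hσ, hf⟩ := HermStab.exists_setup (n := 3) hF
  obtain ⟨g, hgG, hgK, hgo, hgtop⟩ := htor
  set G := GU 3 F q ⊓ Geo.specialLinear (Fin 3) F with hG
  set N := q ^ 2 - q + 1 with hN
  have hqq : q ≤ q ^ 2 := Nat.le_self_pow two_ne_zero q
  have h4q : 4 * q ≤ q ^ 2 := by rw [sq]; exact Nat.mul_le_mul_right q (by omega)
  have hN13 : 13 ≤ N := by omega
  -- scalars
  have hscal : ∀ {x : GL (Fin 3) F} {c : F}, x ∈ G → x.val = c • 1 → c ^ 3 = 1 := fun {x c} hx hc => by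
    have : x.val.det = 1 := by simpa using congrArg Units.val (show _ = (1 : Fˣ) from hx.2)
    rw [hc, Matrix.det_smul, Matrix.det_one, mul_one, Fintype.card_fin] at this
    exact this
  have hns : ∀ z : F, g.val ≠ z • 1 := fun z hz => by
    have h := orderOf_dvd_of_pow_eq_one (x := g) (n := 3) (Units.ext (by
      rw [Units.val_pow_eq_pow_val, hz, _root_.smul_pow, one_pow, hscal hgG hz, one_smul, Units.val_one]))
    have := Nat.le_of_dvd (by norm_num) (hgo ▸ h)
    omega
  refine isMaximalIn_of inf_le_right ?_ fun M hHM hMG g' hg' hgH => ?_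
  · by_contra! h
    exact Aschbacher.su_not_le_subalgebraNormalizer hF le_rfl hK (by norm_num) fun x hx => (h x hx).1
  have hgM : g ∈ M := hHM ⟨fun k => by
    have hcomm : ∀ k ∈ K, g.val * k = k * g.val := fun k hk => hK.comm _ hgK _ hk
    refine ⟨fun hk => by rw [hcomm k hk, mul_assoc, Units.mul_inv, mul_one]; exact hk, fun hk => ?_⟩
    have e := hcomm _ hk
    rw [mul_assoc (g.val * k), Units.inv_mul, mul_one, mul_assoc g.val k] at e
    have e' : g.val * k * ((g⁻¹ : GL (Fin 3) F) : Matrix (Fin 3) (Fin 3) F) = k := by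
      have := congrArg (fun m => ((g⁻¹ : GL (Fin 3) F) : Matrix (Fin 3) (Fin 3) F) * m) e
      simpa [← mul_assoc] using this
    exact e' ▸ hk, hgG⟩
  have htrans : ∀ v c, v ≠ 0 → hermForm 3 F q v v = 0 → c ≠ 0 → c + σ c = 0 →
      ut (hermForm 3 F q) v c ∈ M → G ≤ M := fun v c hv hvv hc0 hc hut => by
    have hall := hcentre hσ hf hMG hgM hgK hgo hv hvv hc0 hc hut
    refine LagPair.le_of_T_mem hF (by omega) fun w a hw ha => ?_
    have e : LagPair.T (hermForm 3 F q) w a = ut (hermForm 3 F q) w a := gl_ext fun x => by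
      rw [LagPair.T_mulVec (LagPair.isPairForm_herm hF) hw, ut_mulVec hf hw]
    rw [e]
    refine (hall w hw).2 a ?_
    have : Unitary.conjHom hF a = σ a := by rw [hσ]; rfl
    rw [this] at ha
    linear_combination -ha
  by_cases htv : ∃ x ∈ M, SL3Geo34.IsTransvec x
  · obtain ⟨x, hx, hxt⟩ := htv
    obtain ⟨v, c, hv, hvv, hc0, hc, rfl⟩ := exists_ut_of_transvec hf (hMG hx).1 hxt
    exact htrans v c hv hvv hc0 hc hx
  simp only [not_exists, not_and] at htv
  exfalso
  -- the normaliser in `M`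
  have hMN : M ⊓ Geo.subalgebraNormalizer K = Geo.subalgebraNormalizer K ⊓ G :=
    le_antisymm (fun x hx => ⟨hx.2, hMG hx.1⟩) fun x hx => ⟨hHM hx, hx.1⟩
  have hcardN : Nat.card ↥(M ⊓ Geo.subalgebraNormalizer K) = 3 * N := by rw [hMN]; exact hcard
  have hlt : 3 * N < Nat.card M := by
    rw [← hcard]
    refine lt_of_not_ge fun hle => hgH ?_
    rw [Subgroup.eq_of_le_of_card_ge hHM hle]
    exact hg'
  obtain ⟨p, n, hp, hn⟩ : ∃ p n, CharP F p ∧ Fintype.card F = p ^ n := by
    obtain ⟨n, hp, hn⟩ := FiniteField.card F (ringChar F)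
    exact ⟨ringChar F, n, ringChar.charP F, hn⟩
  have hprime : p.Prime := CharP.char_is_prime F p
  have : Fact p.Prime := ⟨hprime⟩
  have hq47 : q = 4 ∨ 7 ≤ q := by
    by_contra! h
    have h6 : q = 6 := by omega
    have := FiniteField.isPrimePow_card F
    rw [hF, h6] at this
    obtain ⟨r, k, hr, -, h36⟩ := (isPrimePow_nat_iff _).1 this
    have h2 := Nat.prime_two.dvd_of_dvd_pow (show 2 ∣ r ^ k by rw [h36]; norm_num)
    have h3' := Nat.prime_three.dvd_of_dvd_pow (show 3 ∣ r ^ k by rw [h36]; norm_num)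
    rw [Nat.prime_dvd_prime_iff_eq Nat.prime_two hr] at h2
    rw [Nat.prime_dvd_prime_iff_eq Nat.prime_three hr] at h3'
    omega
  have htwo : Even q → (2 : F) = 0 ∧ p = 2 := fun he => by
    have h2 : 2 ∣ p ^ n := by
      rw [← hn, hF]
      exact dvd_pow (even_iff_two_dvd.1 he) two_ne_zero
    obtain rfl := ((Nat.prime_dvd_prime_iff_eq Nat.prime_two hprime).1 (Nat.prime_two.dvd_of_dvd_pow h2)).symm
    exact ⟨by simpa using CharP.cast_eq_zero F 2, rfl⟩
  -- the order of `M` is prime to `p`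
  have hpM : ¬ p ∣ Nat.card M := by
    intro hd
    rcases Nat.even_or_odd q with he | ho
    · obtain ⟨h2, rfl⟩ := htwo he
      obtain ⟨d, hd2⟩ := exists_prime_orderOf_dvd_card' 2 hd
      obtain ⟨v, c, hv, hvv, hc0, hc, hut⟩ := hinvol h2 hσ hf hMG d.2
        (fun h => by
          rw [show d = 1 from Subtype.ext h, orderOf_one] at hd2; omega)
        (by rw [← Subgroup.coe_pow, ← hd2, pow_orderOf_eq_one, Subgroup.coe_one])
      refine htv _ hut ⟨?_, ?_⟩
      · intro h
        obtain ⟨y, hy⟩ := (hf.nondegenerate v hv).2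
        have hyy : hermForm 3 F q y v ≠ 0 := fun e => hy (by rw [hf.herm v y, e, map_zero])
        have := congrArg (fun u : GL (Fin 3) F => u.val *ᵥ y) h
        simp only [ut_mulVec hf hvv, Units.val_one, Matrix.one_mulVec, add_eq_left, smul_eq_zero,
          mul_eq_zero] at this
        exact this.elim (fun h => h.elim hc0 hyy) hv
      · refine Matrix.ext_iff_mulVec.mpr fun x => ?_
        rw [Matrix.zero_mulVec, ← Matrix.mulVec_mulVec, Matrix.sub_mulVec, Matrix.sub_mulVec,
          Matrix.one_mulVec, Matrix.one_mulVec, ut_mulVec hf hvv, ut_mulVec hf hvv]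
        simp [hf.smul_left, hvv]
    · have : 7 ≤ q := by
        rcases hq47 with h | h
        · subst h; exact absurd ho (by decide)
        · exact h
      exact hdiv this ho hσ hf hMG htv hgM hgK hgo hcardN hlt hd
  -- the group `M`
  set gM : M := ⟨g, hgM⟩ with hgMdef
  have hz : ∀ x : M, x ∈ Subgroup.zpowers gM → x.1.val ∈ K ∧ x.1 ∈ Subgroup.zpowers g := by
    intro x hx
    obtain ⟨k, rfl⟩ := Subgroup.mem_zpowers_iff.1 hx
    have hk : g ^ k ∈ Subgroup.zpowers g := ⟨k, rfl⟩
    obtain ⟨m, hm⟩ := (mem_zpowers_iff_mem_range_orderOf (x := g)).1 hk |> Finset.mem_image.1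
    refine ⟨?_, hk⟩
    show ((g ^ k : GL (Fin 3) F) : Matrix (Fin 3) (Fin 3) F) ∈ K
    rw [← hm.2, Units.val_pow_eq_pow_val]
    exact K.pow_mem hgK m
  have hmem : ∀ x : M, x.1.val ∈ K → x ∈ Subgroup.zpowers gM := fun x hx => by
    obtain ⟨k, hk⟩ := Subgroup.mem_zpowers_iff.1 (hgtop x.1 (hMG x.2) hx)
    exact ⟨k, Subtype.ext hk⟩
  have hCcard : Nat.card (Subgroup.zpowers gM) = N := by
    rw [Nat.card_zpowers, ← Subgroup.orderOf_coe, hgo]
  have hnor : Subgroup.normalizer (Subgroup.zpowers gM : Set M) =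
      (Geo.subalgebraNormalizer K).subgroupOf M := by
    ext y
    constructor
    · intro hy
      have := (hz _ ((Subgroup.mem_normalizer_iff.1 hy gM).1 (Subgroup.mem_zpowers gM))).1
      exact mem_normalizer_of_conj hK hgK hns this
    · intro hy
      refine Subgroup.mem_normalizer_iff.2 fun x => ⟨fun hx => hmem _ ?_, fun hx => hmem _ ?_⟩
      · exact ((Subgroup.mem_subgroupOf.1 hy) x.1.val).1 (hz x hx).1
      · exact ((Subgroup.mem_subgroupOf.1 hy) x.1.val).2 (hz _ hx).1
  have hNM : Nat.card (Subgroup.normalizer (Subgroup.zpowers gM : Set M)) = 3 * N := by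
    rw [hnor, ← Subgroup.card_map_of_injective M.subtype_injective, Subgroup.subgroupOf_map_subtype,
      inf_comm, hcardN]
  have hnormal : (Subgroup.zpowers gM).Normal := by
    rcases hq47 with h4 | h7
    · subst h4
      obtain ⟨-, rfl⟩ := htwo (by decide)
      refine normal_of_four ?_ _ (by rw [hCcard, hN]; norm_num) (by rw [hNM, hN]; norm_num)
      have h := card_su hF
      norm_num only at h
      have hdvd : Nat.card M ∣ 62400 := by
        have h' : Nat.card ↥(GU 3 F 4 ⊓ Geo.specialLinear (Fin 3) F) = 62400 := by omega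
        exact h' ▸ Subgroup.card_dvd_of_le hMG
      have hcop : Nat.Coprime (Nat.card M) (2 ^ 6) :=
        (((Nat.prime_two.coprime_iff_not_dvd).2 hpM).symm).pow_right 6
      exact hcop.dvd_of_dvd_mul_left (by norm_num only; exact hdvd)
    · let Z : Subgroup M := (Geo.scalars (Fin 3) F).subgroupOf M ⊓ Subgroup.zpowers gM
      obtain ⟨lam, hlam, hrat⟩ := exists_lam hK hF (by omega) hgK hgo
      refine normal_of_modular (algebraMap F (AlgebraicClosure F)) hpM M.subtype M.subtype_injective gM Z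
        inf_le_right (fun z hz' => ?_) ?_ (by rw [hNM, hCcard]) ?_ lam hlam hrat ?_
      · obtain ⟨c, hc⟩ := (Geo.mem_scalars_iff _).1 (Subgroup.mem_subgroupOf.1 hz'.1)
        exact ⟨c, hc⟩
      · intro y hy
        refine hmem y (mem_of_commute hK hgK hns ?_)
        have := congrArg (fun u : M => u.1.val) (Subgroup.mem_centralizer_singleton_iff.1 hy)
        simpa using this
      · intro x hx hxZ y hy
        rw [hnor]
        refine mem_normalizer_of_conj hK (hz x hx).1 (fun c hc => hxZ ⟨?_, hx⟩) (hz _ hy).1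
        have hc0 : c ≠ 0 := by
          rintro rfl
          rw [zero_smul] at hc
          exact (Units.ne_zero x.1) hc
        exact Subgroup.mem_subgroupOf.2 ((Geo.mem_scalars_iff _).2 ⟨Units.mk0 c hc0, hc⟩)
      · have hZ : Nat.card Z ≤ 3 := by
          let f : Z → {c : F // c ∈ (Polynomial.nthRootsFinset 3 (1 : F))} := fun z => ⟨z.1.1.val 0 0, by
            obtain ⟨c, hc⟩ := (Geo.mem_scalars_iff _).1 (Subgroup.mem_subgroupOf.1 z.2.1)
            rw [Polynomial.mem_nthRootsFinset (by norm_num)]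
            rw [hc, Matrix.smul_apply, Matrix.one_apply_eq, smul_eq_mul, mul_one]
            exact hscal (hMG z.1.2) hc⟩
          have hf' : Function.Injective f := fun z w hzw => by
            obtain ⟨c, hc⟩ := (Geo.mem_scalars_iff _).1 (Subgroup.mem_subgroupOf.1 z.2.1)
            obtain ⟨d, hd⟩ := (Geo.mem_scalars_iff _).1 (Subgroup.mem_subgroupOf.1 w.2.1)
            have e : z.1.1.val 0 0 = w.1.1.val 0 0 := congrArg Subtype.val hzw
            rw [hc, hd] at e
            simp at e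
            refine Subtype.ext (Subtype.ext (Units.ext ?_))
            rw [hc, hd, e]
          refine (Nat.card_le_card_of_injective f hf').trans ?_
          rw [Nat.card_eq_fintype_card, Fintype.card_coe]
          rw [Polynomial.nthRootsFinset_def]
          exact (Multiset.toFinset_card_le _).trans (Polynomial.card_nthRoots 3 1)
        have h7q : 7 * q ≤ q ^ 2 := by rw [sq]; exact Nat.mul_le_mul_right q h7
        rw [hCcard]
        omega
  -- so `M` normalises the field
  apply hgH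
  refine ⟨?_, hMG hg'⟩
  have h := hnormal.conj_mem gM (Subgroup.mem_zpowers gM) ⟨g', hg'⟩
  exact mem_normalizer_of_conj hK hgK hns (hz _ h).1

end Cfsg.Agent.SU3Geo98.Singer
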