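import Cfsg.Agent.SU3Geo98.Singer.Field
import Cfsg.Agent.MaxSub.HermStabStd

/-!
The norm torus of a cubic field subalgebra in `SU_3(q)` and the order of its normaliser.
-/

set_option autoImplicit false

namespace Cfsg.Agent.SU3Geo98.Singer

open Matrix Polynomial Cfsg.Agent.MaxSub

variable {F : Type*} [Field F] [Fintype F] {q : ℕ}

section Abstract

variable {σ : F ≃+* F} {f : (Fin 3 → F) → (Fin 3 → F) → F}
  {K : Subalgebra F (Matrix (Fin 3) (Fin 3) F)} (S : Cubic q σ f K)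
include S

/-- `q^6 - 1` is `N (q + 1) (q^3 - 1)`. -/
theorem Cubic.factor : q ^ 6 - 1 = (q ^ 2 - q + 1) * (q + 1) * (q ^ 3 - 1) := by
  have hqq : q ≤ q ^ 2 := Nat.le_self_pow two_ne_zero q
  have h1 : 1 ≤ q ^ 3 := Nat.one_le_pow _ _ (by have := S.one_lt; omega)
  have h2 : 1 ≤ q ^ 6 := Nat.one_le_pow _ _ (by have := S.one_lt; omega)
  zify [hqq, h1, h2]
  ring

/-- Roots in the multiplicative group of the field. -/
theorem Cubic.exists_pow_eq {y : K} {d e : ℕ} (hde : q ^ 6 - 1 = d * e) (hy : y ^ e = 1) :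
    ∃ x : K, x ^ d = y := by
  classical
  letI : Field K := S.isField.toField
  haveI : Fintype K := Fintype.ofFinite K
  have h2 : 1 < q ^ 6 := Nat.one_lt_pow (by norm_num) S.one_lt
  have he : e ≠ 0 := by rintro rfl; rw [mul_zero] at hde; omega
  have hy0 : y ≠ 0 := by rintro rfl; simp [zero_pow he] at hy
  obtain ⟨z, hz⟩ := IsCyclic.exists_generator (α := Kˣ)
  have hoz : orderOf z = d * e := by
    rw [orderOf_eq_card_of_forall_mem_zpowers hz, Nat.card_units, S.card, hde]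
  obtain ⟨m, hm⟩ := mem_powers_iff_mem_zpowers.2 (hz (Units.mk0 y hy0))
  simp only at hm
  have h3 : orderOf z ∣ m * e := orderOf_dvd_of_pow_eq_one (by
    rw [pow_mul, hm]; exact Units.ext (by simpa using hy))
  rw [hoz] at h3
  obtain ⟨i, rfl⟩ := Nat.dvd_of_mul_dvd_mul_right (Nat.pos_of_ne_zero he) h3
  refine ⟨((z ^ i : Kˣ) : K), ?_⟩
  rw [← Units.val_pow_eq_pow_val, ← pow_mul, mul_comm, hm, Units.val_mk0]

/-- A torus generator. -/
theorem Cubic.exists_gen : ∃ (g : GL (Fin 3) F) (x : K), (g : Matrix (Fin 3) (Fin 3) F) = x ∧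
    g ∈ HermStab.su f ∧ orderOf g = q ^ 2 - q + 1 ∧ orderOf x = q ^ 2 - q + 1 := by
  classical
  letI : Field K := S.isField.toField
  haveI : Fintype K := Fintype.ofFinite K
  set N := q ^ 2 - q + 1 with hN
  obtain ⟨z, hz⟩ := IsCyclic.exists_generator (α := Kˣ)
  have hoz : orderOf z = q ^ 6 - 1 := by
    rw [orderOf_eq_card_of_forall_mem_zpowers hz, Nat.card_units, S.card]
  set u := z ^ ((q + 1) * (q ^ 3 - 1)) with hu
  have hou : orderOf u = N := by
    have e := S.factor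
    rw [← hN, mul_assoc] at e
    have h0 : (q + 1) * (q ^ 3 - 1) ≠ 0 := by
      intro h
      rw [h, mul_zero] at e
      have := Nat.one_lt_pow (by norm_num : 6 ≠ 0) S.one_lt
      omega
    rw [hu, orderOf_pow' _ h0, hoz, e, Nat.gcd_mul_left_left,
      Nat.mul_div_cancel _ (Nat.pos_of_ne_zero h0)]
  have hux : orderOf (u : K) = N := by rw [orderOf_units, hou]
  let g : GL (Fin 3) F := Units.map K.val.toRingHom.toMonoidHom u
  refine ⟨g, u, rfl, (S.mem_su_iff (h := g) rfl).2 (orderOf_dvd_iff_pow_eq_one.1 hux.dvd), ?_, hux⟩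
  rw [← hou]
  exact orderOf_injective _ (Units.map_injective Subtype.val_injective) u

variable {g : GL (Fin 3) F} {x : K} (hgx : (g : Matrix (Fin 3) (Fin 3) F) = x)
  (hx : orderOf x = q ^ 2 - q + 1)
include hgx hx

/-- Isometries of determinant one in the field are powers of the generator. -/
theorem Cubic.mem_zpowers {h : GL (Fin 3) F} (hh : h ∈ HermStab.su f)
    (hK : (h : Matrix (Fin 3) (Fin 3) F) ∈ K) : h ∈ Subgroup.zpowers g := by
  letI : Field K := S.isField.toField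
  haveI : NeZero (q ^ 2 - q + 1) := ⟨by omega⟩
  obtain ⟨i, -, hi⟩ := ((IsPrimitiveRoot.iff_orderOf).2 hx).eq_pow_of_pow_eq_one ((S.mem_su_iff (h := h) (x := ⟨_, hK⟩) rfl).1 hh)
  refine ⟨(i : ℤ), Units.ext ?_⟩
  show ((g ^ (i : ℤ) : GL (Fin 3) F) : Matrix (Fin 3) (Fin 3) F) = _
  rw [zpow_natCast, Units.val_pow_eq_pow_val, hgx, ← SubmonoidClass.coe_pow, hi]

theorem Cubic.notMem_range (hq : 3 ≤ q) : x ∉ Set.range (algebraMap F K) := by
  rintro ⟨c, hc⟩
  have hc0 : c ≠ 0 := by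
    rintro rfl
    rw [map_zero] at hc
    subst hc
    have h0 := orderOf_dvd_iff_pow_eq_one.1 hx.dvd
    haveI : Nontrivial K := S.isField.nontrivial
    rw [zero_pow (by omega)] at h0
    exact zero_ne_one h0
  have h1 : x ^ (q ^ 2 - 1) = 1 := by
    rw [← hc, ← map_pow, ← S.hF, FiniteField.pow_card_sub_one_eq_one c hc0, map_one]
  have h2 : q ^ 2 - q + 1 ∣ q ^ 2 - 1 := hx ▸ orderOf_dvd_of_pow_eq_one h1
  have h5 : 3 * q ≤ q ^ 2 := by rw [sq]; exact Nat.mul_le_mul_right q hq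
  have h3 : q ^ 2 - 1 = (q ^ 2 - q + 1) + (q - 2) := by omega
  rw [h3] at h2
  have h4 := Nat.le_of_dvd (by omega) ((Nat.dvd_add_right dvd_rfl).1 h2)
  omega

omit hgx hx in
/-- Conjugation by an element moving a generator into the field normalises it. -/
theorem Cubic.mem_normalizer {y : K} (hy : y ∉ Set.range (algebraMap F K)) {h : GL (Fin 3) F}
    (hh : (h : Matrix (Fin 3) (Fin 3) F) * y * ((h⁻¹ : GL (Fin 3) F) : Matrix (Fin 3) (Fin 3) F) ∈ K) :
    h ∈ Geo.subalgebraNormalizer K := by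
  let L : Matrix (Fin 3) (Fin 3) F →ₐ[F] Matrix (Fin 3) (Fin 3) F :=
    { toFun := fun k => (h : Matrix (Fin 3) (Fin 3) F) * k * ((h⁻¹ : GL (Fin 3) F) : Matrix _ _ F)
      map_one' := by simp
      map_mul' := fun a b => by simp [mul_assoc]
      map_zero' := by simp
      map_add' := fun a b => by rw [mul_add, add_mul]
      commutes' := fun c => by
        rw [← Algebra.commutes, mul_assoc, ← Units.val_mul, mul_inv_cancel, Units.val_one, mul_one] }
  have hL : Function.Injective L := fun a b hab =>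
    h.isUnit.mul_left_cancel ((h⁻¹).isUnit.mul_right_cancel hab)
  have htop := S.adjoin_eq_top hy ((K.comap L).comap K.val) hh
  have hle : K.map L ≤ K := by
    rintro _ ⟨k, hk, rfl⟩
    have : (⟨k, hk⟩ : K) ∈ (K.comap L).comap K.val := htop ▸ Algebra.mem_top
    exact this
  have heq : (K.map L).toSubmodule = K.toSubmodule := by
    refine Submodule.eq_of_le_of_finrank_eq hle ?_
    rw [Subalgebra.map_toSubmodule]
    exact (Submodule.equivMapOfInjective L.toLinearMap hL K.toSubmodule).finrank_eq.symm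
  intro k
  refine ⟨fun hk => hle ⟨k, hk, rfl⟩, fun hk => ?_⟩
  have : L k ∈ (K.map L).toSubmodule := heq.symm ▸ hk
  obtain ⟨k', hk', he⟩ := this
  rwa [← hL he]

omit hgx hx in
/-- An isometry of determinant one inducing the Frobenius on the field. -/
theorem Cubic.exists_frobenius : ∃ h : GL (Fin 3) F, h ∈ HermStab.su f ∧
    ∀ k : K, (h : Matrix (Fin 3) (Fin 3) F) * k =
      ((k ^ q ^ 2 : K) : Matrix (Fin 3) (Fin 3) F) * h := by
  classical
  letI : Field K := S.isField.toField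
  haveI : Fintype K := Fintype.ofFinite K
  haveI : Module.Finite F K := Module.finite_of_finrank_pos (by rw [S.hK.finrank_eq]; norm_num)
  obtain ⟨e, he⟩ := exists_ne (0 : Fin 3 → F)
  let E : K ≃ₗ[F] (Fin 3 → F) := LinearEquiv.ofBijective (ExtFieldMax.ev K e) (S.bijective_ev he)
  have hE : ∀ k : K, E k = (k : Matrix (Fin 3) (Fin 3) F) *ᵥ e := fun k => rfl
  let φ : K →ₗ[F] F := (hl S.hf e).comp E.toLinearMap
  have hφ : ∀ k, φ k = f (E k) e := fun k => rfl
  have hform : ∀ k l : K, f (E k) (E l) = φ (l ^ q ^ 3 * k) := fun k l => by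
    have h6 : (l ^ q ^ 3) ^ q ^ 3 = l := by
      rw [← pow_mul, ← pow_add]; exact S.pow_card l
    rw [hφ, hE, hE, hE, Subalgebra.coe_mul, ← mulVec_mulVec, S.adj (l ^ q ^ 3), h6]
  have hφbar : ∀ k, φ (k ^ q ^ 3) = σ (φ k) := fun k => by
    have h1 : ∀ j, φ j = f (E j) (E 1) := fun j => by rw [hform, one_pow, one_mul]
    conv_rhs => rw [h1, ← S.hf.herm]
    rw [hform, mul_one]
  let fr : K →ₗ[F] K :=
    { toFun := fun k => k ^ q ^ 2
      map_add' := S.add_pow 2
      map_smul' := fun c k => by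
        rw [RingHom.id_apply, Algebra.smul_def, Algebra.smul_def, mul_pow, S.algebraMap_pow] }
  have hfr : ∀ k, fr k = k ^ q ^ 2 := fun k => rfl
  -- the multiplier
  let T : K →ₗ[F] (K →ₗ[F] F) :=
    { toFun := fun b => φ ∘ₗ LinearMap.mulLeft F b ∘ₗ fr
      map_add' := fun a b => LinearMap.ext fun k => by simp [add_mul]
      map_smul' := fun c a => LinearMap.ext fun k => by simp }
  have hT : ∀ b k, T b k = φ (b * k ^ q ^ 2) := fun b k => rfl
  have hTinj : Function.Injective T := (injective_iff_map_eq_zero _).2 fun b hb => by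
    by_contra hb0
    obtain ⟨w, hw⟩ := (S.hf.nondegenerate e he).1
    obtain ⟨k, hk⟩ := E.surjective w
    apply hw
    rw [← hk, ← hφ]
    have h1 := LinearMap.congr_fun hb ((b⁻¹ * k) ^ q ^ 4)
    rw [hT, LinearMap.zero_apply, ← pow_mul, ← pow_add] at h1
    rwa [show q ^ (4 + 2) = q ^ 6 from rfl, S.pow_card, mul_inv_cancel_left₀ hb0] at h1
  obtain ⟨b, hb⟩ := (LinearMap.injective_iff_surjective_of_finrank_eq_finrank
    (by rw [Module.finrank_linearMap, Module.finrank_self, mul_one])).1 hTinj φ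
  have hb' : ∀ k, φ (b * k ^ q ^ 2) = φ k := fun k => by rw [← hT, hb]
  have hbfix : b ^ q ^ 3 = b := hTinj (LinearMap.ext fun k => by
    rw [hT, hb]
    have h6 : ∀ j : K, (j ^ q ^ 3) ^ q ^ 3 = j := fun j => by
      rw [← pow_mul, ← pow_add]; exact S.pow_card j
    calc φ (b ^ q ^ 3 * k ^ q ^ 2) = φ ((b * (k ^ q ^ 3) ^ q ^ 2) ^ q ^ 3) := by
          rw [mul_pow, ← pow_mul k, mul_comm (q ^ 3) (q ^ 2), pow_mul k, h6]
      _ = φ k := by rw [hφbar, hb', ← hφbar, h6])
  have hb0 : b ≠ 0 := fun h0 => by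
    obtain ⟨w, hw⟩ := (S.hf.nondegenerate e he).1
    obtain ⟨k, hk⟩ := E.surjective w
    exact hw (by rw [← hk, ← hφ, ← hb' k, h0, zero_mul, map_zero])
  obtain ⟨c, hc⟩ := S.exists_pow_eq (y := b) (d := q ^ 3 + 1) (e := q ^ 3 - 1) (by
    rw [show q ^ 6 = (q ^ 3) ^ 2 by ring]; simpa using Nat.sq_sub_sq (q ^ 3) 1) (by
    refine mul_right_cancel₀ hb0 ?_
    rw [← pow_succ, one_mul, Nat.sub_add_cancel (Nat.one_le_pow _ _ (by have := S.one_lt; omega)),
      hbfix])
  have hc0 : c ≠ 0 := fun h0 => hb0 (by rw [← hc, h0, zero_pow (Nat.succ_ne_zero _)])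
  -- the semilinear map
  let h₀ : (Fin 3 → F) →ₗ[F] (Fin 3 → F) :=
    E.toLinearMap ∘ₗ LinearMap.mulLeft F c ∘ₗ fr ∘ₗ E.symm.toLinearMap
  have hh₀ : ∀ k, h₀ (E k) = E (c * k ^ q ^ 2) := fun k => by simp [h₀, hfr]
  set A := LinearMap.toMatrix' h₀ with hA
  have hAv : ∀ v, A *ᵥ v = h₀ v := fun v => LinearMap.toMatrix'_mulVec h₀ v
  have hcomm : ∀ k : K, A * k = ((k ^ q ^ 2 : K) : Matrix (Fin 3) (Fin 3) F) * A := fun k => by
    refine Matrix.ext_of_mulVec_single fun i => ?_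
    obtain ⟨l, hl⟩ := E.surjective (Pi.single i 1)
    rw [← hl, ← mulVec_mulVec, ← mulVec_mulVec, hAv, hAv, hh₀,
      show (k : Matrix (Fin 3) (Fin 3) F) *ᵥ E l = E (k * l) from by
        rw [hE, hE, Subalgebra.coe_mul, mulVec_mulVec],
      hh₀, hE, hE, mulVec_mulVec, ← Subalgebra.coe_mul, mul_pow]
    congr 2
    ring
  have hiso : ∀ u v, f (A *ᵥ u) (A *ᵥ v) = f u v := fun u v => by
    obtain ⟨k, rfl⟩ := E.surjective u
    obtain ⟨l, rfl⟩ := E.surjective v
    rw [hAv, hAv, hh₀, hh₀, hform, hform, ← hb' (l ^ q ^ 3 * k), ← hc]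
    congr 1
    rw [mul_pow, mul_pow, pow_succ c, ← pow_mul, ← pow_mul]
    ring
  have hAinj : Function.Injective (Matrix.mulVec A) := fun u v huv => by
    rw [hAv, hAv] at huv
    obtain ⟨k, rfl⟩ := E.surjective u
    obtain ⟨l, rfl⟩ := E.surjective v
    rw [hh₀, hh₀] at huv
    have h1 := mul_left_cancel₀ hc0 (E.injective huv)
    have h2 := congrArg (fun j : K => j ^ q ^ 4) h1
    simp only [← pow_mul, ← pow_add] at h2
    rw [show q ^ (2 + 4) = q ^ 6 from rfl, S.pow_card, S.pow_card] at h2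
    rw [h2]
  obtain ⟨a, ha⟩ := Matrix.mulVec_injective_iff_isUnit.1 hAinj
  have haiso : a ∈ isom f := by
    rw [mem_isom]; intro u v; rw [ha]; exact hiso u v
  -- the determinant of an isometry has norm one
  set d := A.det with hd
  have hd0 : d ≠ 0 := by
    rw [hd, ← ha]; exact ((Matrix.isUnit_iff_isUnit_det _).1 a.isUnit).ne_zero
  have hdn : σ d * d = 1 := by
    let H : Matrix (Fin 3) (Fin 3) F := Matrix.of fun i j => f (Pi.single i 1) (Pi.single j 1)
    have hf' : ∀ u v, f u v = u ⬝ᵥ (H *ᵥ fun j => σ (v j)) := fun u v => by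
      have hu : u = ∑ i, u i • (Pi.single i 1 : Fin 3 → F) := by
        ext i; fin_cases i <;> simp [Fin.sum_univ_three, Pi.single_apply]
      have hv : v = ∑ i, v i • (Pi.single i 1 : Fin 3 → F) := by
        ext i; fin_cases i <;> simp [Fin.sum_univ_three, Pi.single_apply]
      conv_lhs => rw [hu, hv]
      simp only [Fin.sum_univ_three, S.hf.add_left, S.hf.smul_left, hadd_right S.hf,
        hsmul_right S.hf, dotProduct, Matrix.mulVec, H, Matrix.of_apply]
      ring
    have hH : A.transpose * H * (A.map σ) = H := by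
      ext i j
      have h1 := hiso (Pi.single i 1) (Pi.single j 1)
      rw [hf', hf'] at h1
      simp [Matrix.mulVec, dotProduct, Fin.sum_univ_three, Pi.single_apply, apply_ite σ] at h1
      simp [Matrix.mul_apply, Fin.sum_univ_three]
      linear_combination h1
    have hH0 : H.det ≠ 0 := fun h0 => by
      obtain ⟨v, hv, hv0⟩ := Matrix.exists_mulVec_eq_zero_iff.2 h0
      obtain ⟨u, hu⟩ := (S.hf.nondegenerate (fun j => σ (v j)) (fun h => hv (funext fun j =>
        σ.injective (by simpa using congrFun h j)))).1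
      apply hu
      rw [hf', show (fun j => σ (σ (v j))) = v from funext fun j => S.hf.involutive _, hv0,
        dotProduct_zero]
    have h2 := congrArg Matrix.det hH
    rw [Matrix.det_mul, Matrix.det_mul, Matrix.det_transpose,
      show (A.map σ).det = σ A.det from (RingHom.map_det σ.toRingHom A).symm, ← hd] at h2
    refine mul_right_cancel₀ hH0 ?_
    linear_combination h2
  -- correct the determinant
  obtain ⟨v, hv⟩ := S.exists_pow_eq (y := algebraMap F K d⁻¹) (d := q ^ 2 - q + 1)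
    (e := (q + 1) * (q ^ 3 - 1)) (by rw [← mul_assoc]; exact S.factor) (by
    rw [pow_mul, ← map_pow, inv_pow, pow_succ, ← S.hsig, hdn, inv_one, map_one, one_pow])
  have hqq : q ≤ q ^ 2 := Nat.le_self_pow two_ne_zero q
  have hv0 : v ≠ 0 := fun h0 => by
    rw [h0, zero_pow (by omega)] at hv
    exact inv_ne_zero hd0 ((algebraMap F K).injective (hv.symm.trans (map_zero _).symm))
  let V : GL (Fin 3) F := Units.map K.val.toRingHom.toMonoidHom (Units.mk0 v hv0)
  refine ⟨V * a, ?_, fun k => ?_⟩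
  · refine ⟨mul_mem ?_ haiso, ?_⟩
    · show V ∈ isom f
      rw [mem_isom]
      intro u w
      show f ((v : Matrix (Fin 3) (Fin 3) F) *ᵥ u) ((v : Matrix (Fin 3) (Fin 3) F) *ᵥ w) = _
      rw [S.adj, mulVec_mulVec, ← Subalgebra.coe_mul, ← pow_succ,
        show q ^ 3 + 1 = (q ^ 2 - q + 1) * (q + 1) by zify [hqq]; ring, pow_mul, hv, ← map_pow,
        inv_pow, pow_succ, ← S.hsig, hdn, inv_one, map_one, Subalgebra.coe_one, one_mulVec]
    · show Matrix.GeneralLinearGroup.det (V * a) = 1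
      rw [← Units.val_inj, Matrix.GeneralLinearGroup.val_det_apply, Units.val_mul, Matrix.det_mul,
        ha, ← hd, Units.val_one]
      have hdet : (v : Matrix (Fin 3) (Fin 3) F).det = d⁻¹ := by
        apply (algebraMap F K).injective
        rw [S.det_eq]
        calc v * v ^ q ^ 2 * v ^ q ^ 4 = v ^ ((q ^ 2 - q + 1) * (q * (q + 1) + 1)) := by
              rw [show (q ^ 2 - q + 1) * (q * (q + 1) + 1) = 1 + q ^ 2 + q ^ 4 by zify [hqq]; ring,
                pow_add, pow_add, pow_one]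
          _ = algebraMap F K d⁻¹ := by
              rw [pow_mul, hv, pow_succ, mul_comm q, pow_mul, ← map_pow, inv_pow, pow_succ d,
                ← S.hsig, hdn, inv_one, map_one, one_pow, one_mul]
      show (v : Matrix (Fin 3) (Fin 3) F).det * d = 1
      rw [hdet, inv_mul_cancel₀ hd0]
  · rw [Units.val_mul, ha, mul_assoc, hcomm, ← mul_assoc, ← mul_assoc]
    congr 1
    exact S.hK.comm _ v.2 _ (k ^ q ^ 2).2

/-- The centraliser of a generator is the torus. -/
theorem Cubic.mem_zpowers_of_commute (hq : 3 ≤ q) {h : GL (Fin 3) F} (hh : h ∈ HermStab.su f)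
    (hcg : h * g = g * h) : h ∈ Subgroup.zpowers g := by
  have htop := S.adjoin_eq_top (S.notMem_range hgx hx hq)
    ((Subalgebra.centralizer F {(h : Matrix (Fin 3) (Fin 3) F)}).comap K.val) (by
      rw [Subalgebra.mem_comap, Subalgebra.mem_centralizer_iff]
      simp only [Set.mem_singleton_iff, forall_eq, Subalgebra.coe_val]
      rw [← hgx, ← Units.val_mul, ← Units.val_mul, hcg])
  refine S.mem_zpowers hgx hx hh (S.mem_of_commute fun k => ?_)
  have : k ∈ (Subalgebra.centralizer F {(h : Matrix (Fin 3) (Fin 3) F)}).comap K.val :=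
    htop ▸ Algebra.mem_top
  rw [Subalgebra.mem_comap, Subalgebra.mem_centralizer_iff] at this
  exact this _ rfl

/-- The conjugates of a generator inside the normaliser. -/
theorem Cubic.conj_cases {k : GL (Fin 3) F} (hk : k ∈ Geo.subalgebraNormalizer K) :
    ((k * g * k⁻¹ : GL (Fin 3) F) : Matrix (Fin 3) (Fin 3) F) ∈
      ({(x : Matrix (Fin 3) (Fin 3) F), ((x ^ q ^ 2 : K) : Matrix (Fin 3) (Fin 3) F),
        ((x ^ q ^ 4 : K) : Matrix (Fin 3) (Fin 3) F)} : Set (Matrix (Fin 3) (Fin 3) F)) := by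
  letI : Field K := S.isField.toField
  have hmem := (hk (x : Matrix (Fin 3) (Fin 3) F)).1 x.2
  set y : K := ⟨_, hmem⟩ with hy
  have hyv : ((k * g * k⁻¹ : GL (Fin 3) F) : Matrix (Fin 3) (Fin 3) F) = y := by
    rw [Units.val_mul, Units.val_mul, hgx]
  have hcp : (y : Matrix (Fin 3) (Fin 3) F).charpoly =
      (x : Matrix (Fin 3) (Fin 3) F).charpoly := by
    rw [← hyv, Units.val_mul, Units.val_mul, hgx, Matrix.coe_units_inv,
      Matrix.charpoly_units_conj]
  have h1 := congrArg (fun P => Polynomial.eval y (P.map (algebraMap F K))) hcp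
  simp only [S.charpoly_map, eval_mul, eval_sub, eval_X, eval_C, sub_self, zero_mul] at h1
  rw [hyv]
  rcases mul_eq_zero.1 h1.symm with h | h
  · rcases mul_eq_zero.1 h with h | h
    · rw [sub_eq_zero.1 h]; simp
    · rw [sub_eq_zero.1 h]; simp
  · rw [sub_eq_zero.1 h]; simp

/-- The three conjugates are distinct. -/
theorem Cubic.ncard_conj (hq : 3 ≤ q) :
    ({(x : Matrix (Fin 3) (Fin 3) F), ((x ^ q ^ 2 : K) : Matrix (Fin 3) (Fin 3) F),
        ((x ^ q ^ 4 : K) : Matrix (Fin 3) (Fin 3) F)} : Set (Matrix (Fin 3) (Fin 3) F)).ncard = 3 := by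
  letI : Field K := S.isField.toField
  have hmove : x ^ q ^ 2 ≠ x := fun heq => by
    have hx0 : x ≠ 0 := (IsPrimitiveRoot.iff_orderOf.2 hx).ne_zero (by omega)
    have h1 : x ^ (q ^ 2 - 1) = 1 := mul_right_cancel₀ hx0 (by
      rw [← pow_succ, one_mul, Nat.sub_add_cancel (by nlinarith [S.one_lt]), heq])
    have h2 : q ^ 2 - q + 1 ∣ q ^ 2 - 1 := hx ▸ orderOf_dvd_of_pow_eq_one h1
    have h5 : 3 * q ≤ q ^ 2 := by rw [sq]; exact Nat.mul_le_mul_right q hq
    rw [show q ^ 2 - 1 = (q ^ 2 - q + 1) + (q - 2) by omega] at h2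
    have h4 := Nat.le_of_dvd (by omega) ((Nat.dvd_add_right dvd_rfl).1 h2)
    omega
  have h6 : (x ^ q ^ 4) ^ q ^ 2 = x := by rw [← pow_mul, ← pow_add]; exact S.pow_card x
  have h42 : (x ^ q ^ 2) ^ q ^ 2 = x ^ q ^ 4 := by rw [← pow_mul, ← pow_add]
  have n1 : (x : Matrix (Fin 3) (Fin 3) F) ≠ ((x ^ q ^ 2 : K) : Matrix (Fin 3) (Fin 3) F) :=
    fun h => hmove (Subtype.ext h).symm
  have n2 : (x : Matrix (Fin 3) (Fin 3) F) ≠ ((x ^ q ^ 4 : K) : Matrix (Fin 3) (Fin 3) F) :=
    fun h => by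
      rw [← (Subtype.ext h : x = x ^ q ^ 4)] at h6
      exact hmove h6
  have n3 : ((x ^ q ^ 2 : K) : Matrix (Fin 3) (Fin 3) F) ≠
      ((x ^ q ^ 4 : K) : Matrix (Fin 3) (Fin 3) F) := fun h => by
    have h' : x ^ q ^ 2 = x ^ q ^ 4 := Subtype.ext h
    rw [← h', h42, ← h'] at h6
    exact hmove h6
  rw [Set.ncard_insert_of_notMem (by rintro (h | h); exacts [n1 h, n2 h]), Set.ncard_pair n3]

/-- The normaliser of the field. -/
theorem Cubic.card_normalizer (hq : 3 ≤ q) (hg : g ∈ HermStab.su f)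
    (hord : orderOf g = q ^ 2 - q + 1) :
    Nat.card ↥(Geo.subalgebraNormalizer K ⊓ HermStab.su f) = 3 * (q ^ 2 - q + 1) := by
  classical
  have hxr := S.notMem_range hgx hx hq
  obtain ⟨t, ht, htc⟩ := S.exists_frobenius
  have hcon : ∀ k : K, (t : Matrix (Fin 3) (Fin 3) F) * k *
      ((t⁻¹ : GL (Fin 3) F) : Matrix (Fin 3) (Fin 3) F) =
        ((k ^ q ^ 2 : K) : Matrix (Fin 3) (Fin 3) F) :=
    fun k => by rw [htc, mul_assoc, ← Units.val_mul, mul_inv_cancel, Units.val_one, mul_one]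
  have htN : t ∈ Geo.subalgebraNormalizer K := S.mem_normalizer hxr (by
    rw [hcon]; exact (x ^ q ^ 2).2)
  have hgN : g ∈ Geo.subalgebraNormalizer K := S.mem_normalizer hxr (by
    rw [← hgx, ← Units.val_mul, ← Units.val_mul, mul_inv_cancel_right, hgx]; exact x.2)
  -- conjugation of the generator
  let φ : ↥(Geo.subalgebraNormalizer K ⊓ HermStab.su f) → Matrix (Fin 3) (Fin 3) F := fun k =>
    (((k : GL (Fin 3) F) * g * (k : GL (Fin 3) F)⁻¹ : GL (Fin 3) F) : Matrix (Fin 3) (Fin 3) F)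
  have hrange : Set.range φ = ({(x : Matrix (Fin 3) (Fin 3) F),
      ((x ^ q ^ 2 : K) : Matrix (Fin 3) (Fin 3) F),
      ((x ^ q ^ 4 : K) : Matrix (Fin 3) (Fin 3) F)} : Set (Matrix (Fin 3) (Fin 3) F)) := by
    ext m
    constructor
    · rintro ⟨k, rfl⟩
      exact S.conj_cases hgx hx k.2.1
    · rintro (rfl | rfl | rfl)
      · exact ⟨1, by simp [φ, hgx]⟩
      · exact ⟨⟨t, htN, ht⟩, by simp only [φ, Units.val_mul, hgx, hcon]⟩
      · refine ⟨⟨t, htN, ht⟩ * ⟨t, htN, ht⟩, ?_⟩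
        rw [show x ^ q ^ 4 = (x ^ q ^ 2) ^ q ^ 2 by rw [← pow_mul, ← pow_add], ← hcon, ← hcon,
          ← hgx]
        simp only [φ, Subgroup.coe_mul, _root_.mul_inv_rev, Units.val_mul, mul_assoc]
  let T : Subgroup ↥(Geo.subalgebraNormalizer K ⊓ HermStab.su f) :=
    Subgroup.zpowers ⟨g, hgN, hg⟩
  have hfib : ∀ a b : ↥(Geo.subalgebraNormalizer K ⊓ HermStab.su f), φ a = φ b ↔ a⁻¹ * b ∈ T := by
    intro a b
    constructor
    · intro hab
      have h1 : (a : GL (Fin 3) F) * g * (a : GL (Fin 3) F)⁻¹ =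
          (b : GL (Fin 3) F) * g * (b : GL (Fin 3) F)⁻¹ := Units.ext hab
      obtain ⟨i, hi⟩ := S.mem_zpowers_of_commute hgx hx hq (h := ((a⁻¹ * b : _) : GL (Fin 3) F))
        (a⁻¹ * b).2.2 (by
          have h2 := congrArg (fun w => (a : GL (Fin 3) F)⁻¹ * w * (b : GL (Fin 3) F)) h1
          simpa [mul_assoc] using h2.symm)
      exact ⟨i, Subtype.ext (by simpa using hi)⟩
    · rintro ⟨i, hi⟩
      have h1 : g ^ i = (a : GL (Fin 3) F)⁻¹ * b := by simpa using congrArg Subtype.val hi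
      refine congrArg Units.val ?_
      rw [show (b : GL (Fin 3) F) = a * g ^ i by rw [h1, mul_inv_cancel_left]]
      group
  let ψ : _ ⧸ T → Set.range φ := Quotient.lift (fun k => (⟨φ k, k, rfl⟩ : Set.range φ))
    fun a b hab => Subtype.ext ((hfib a b).2 (QuotientGroup.leftRel_apply.1 hab))
  have hψ : Function.Bijective ψ := by
    constructor
    · intro a b
      induction a using QuotientGroup.induction_on with
      | _ a =>
        induction b using QuotientGroup.induction_on with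
        | _ b => exact fun hab => QuotientGroup.eq.2 ((hfib a b).1 (congrArg Subtype.val hab))
    · rintro ⟨_, k, rfl⟩
      exact ⟨QuotientGroup.mk k, rfl⟩
  rw [Subgroup.card_eq_card_quotient_mul_card_subgroup T, Nat.card_congr (Equiv.ofBijective ψ hψ),
    Nat.card_coe_set_eq, hrange, S.ncard_conj hgx hx hq, Nat.card_zpowers, ← Subgroup.orderOf_coe,
    hord]

end Abstract

variable (hF : Fintype.card F = q ^ 2) {K : Subalgebra F (Matrix (Fin 3) (Fin 3) F)}
  (hK : Geo.IsFieldSubalgebra 3 K) (hac : Geo.IsAdjointClosedFor (hermForm 3 F q) K)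
include hF hK hac

/-- The norm torus. -/
theorem exists_torus : ∃ g : GL (Fin 3) F, g ∈ GU 3 F q ⊓ Geo.specialLinear (Fin 3) F ∧
    (g : Matrix (Fin 3) (Fin 3) F) ∈ K ∧ orderOf g = q ^ 2 - q + 1 ∧
    ∀ x ∈ GU 3 F q ⊓ Geo.specialLinear (Fin 3) F, (x : Matrix (Fin 3) (Fin 3) F) ∈ K →
      x ∈ Subgroup.zpowers g := by
  obtain ⟨σ, hσ, hf⟩ := HermStab.exists_setup (n := 3) hF
  have S : Cubic q σ (hermForm 3 F q) K := ⟨hF, hσ, hf, hK, hac⟩
  obtain ⟨g, x, hgx, hg, ho, hx⟩ := S.exists_gen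
  exact ⟨g, hg, hgx ▸ x.2, ho, fun y hy hyK => S.mem_zpowers hgx hx hy hyK⟩

/-- The order of the normaliser. -/
theorem card_normalizer (hq : 3 ≤ q) :
    Nat.card ↥(Geo.subalgebraNormalizer K ⊓ (GU 3 F q ⊓ Geo.specialLinear (Fin 3) F)) =
      3 * (q ^ 2 - q + 1) := by
  obtain ⟨σ, hσ, hf⟩ := HermStab.exists_setup (n := 3) hF
  have S : Cubic q σ (hermForm 3 F q) K := ⟨hF, hσ, hf, hK, hac⟩
  obtain ⟨g, x, hgx, hg, ho, hx⟩ := S.exists_gen
  exact S.card_normalizer hgx hx hq hg ho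

end Cfsg.Agent.SU3Geo98.Singer
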