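import Cfsg.Prelude.Def_GeometricClasses

/-!
Class three of S5777, case of the characteristic (helper99): field subalgebras of degree three.
-/

set_option autoImplicit false
set_option linter.unusedSectionVars false
set_option linter.style.haveILetI false

namespace Cfsg.Agent.SU3Geo98.Singer

open Matrix

variable {F : Type*} [Field F] [Fintype F]
variable {K : Subalgebra F (Matrix (Fin 3) (Fin 3) F)} (hK : Cfsg.Geo.IsFieldSubalgebra 3 K)
include hK

theorem scalar_of_eigen {k : Matrix (Fin 3) (Fin 3) F} (hk : k ∈ K) {v : Fin 3 → F} (hv : v ≠ 0)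
    {r : F} (h : k *ᵥ v = r • v) : k = r • 1 := by
  by_contra hne
  have hm : k - r • 1 ∈ K := sub_mem hk (K.smul_mem K.one_mem r)
  obtain ⟨y, hy, e⟩ := hK.inv _ hm (sub_ne_zero.2 hne)
  rw [hK.comm _ hm _ hy] at e
  refine hv ?_
  calc v = (y * (k - r • 1)) *ᵥ v := by rw [e, one_mulVec]
    _ = 0 := by rw [← mulVec_mulVec, sub_mulVec, h, smul_mulVec, one_mulVec, sub_self, mulVec_zero]

theorem eq_zero_or_of_mul {a b : Matrix (Fin 3) (Fin 3) F} (ha : a ∈ K) (h : a * b = 0) :
    a = 0 ∨ b = 0 := by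
  by_cases h0 : a = 0
  · exact Or.inl h0
  · obtain ⟨y, hy, e⟩ := hK.inv a ha h0
    refine Or.inr ?_
    calc b = y * a * b := by rw [hK.comm _ hy _ ha, e, one_mul]
      _ = 0 := by rw [mul_assoc, h, mul_zero]

theorem mem_of_commute {u : Matrix (Fin 3) (Fin 3) F} (h : ∀ k ∈ K, u * k = k * u) : u ∈ K := by
  set v0 : Fin 3 → F := Pi.single 0 1
  have hv0 : v0 ≠ 0 := by simp [v0]
  let ψ : K →ₗ[F] (Fin 3 → F) :=
    { toFun := fun k => (k : Matrix (Fin 3) (Fin 3) F) *ᵥ v0
      map_add' := fun a b => add_mulVec _ _ _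
      map_smul' := fun c a => smul_mulVec c _ _ }
  have hinj : Function.Injective ψ := by
    rw [injective_iff_map_eq_zero]
    intro k hk
    have := scalar_of_eigen hK k.2 hv0 (r := 0) (by rw [zero_smul]; exact hk)
    exact Subtype.ext (by simpa using this)
  have hsurj : Function.Surjective ψ := by
    have hd : Module.finrank F K = Module.finrank F (Fin 3 → F) := by
      rw [hK.finrank_eq, Module.finrank_fin_fun]
    exact (LinearMap.injective_iff_surjective_of_finrank_eq_finrank hd).1 hinj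
  obtain ⟨k, hk⟩ := hsurj (u *ᵥ v0)
  change (k : Matrix (Fin 3) (Fin 3) F) *ᵥ v0 = u *ᵥ v0 at hk
  have he : u = k := by
    refine Matrix.toLin'.injective (LinearMap.ext fun w => ?_)
    obtain ⟨b, rfl⟩ := hsurj w
    show Matrix.toLin' u ((b : Matrix (Fin 3) (Fin 3) F) *ᵥ v0) =
      Matrix.toLin' (k : Matrix (Fin 3) (Fin 3) F) ((b : Matrix (Fin 3) (Fin 3) F) *ᵥ v0)
    rw [toLin'_apply, toLin'_apply, mulVec_mulVec, mulVec_mulVec, h _ b.2, hK.comm _ k.2 _ b.2,
      ← mulVec_mulVec, ← mulVec_mulVec, hk]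
  exact he ▸ k.2

theorem normalizes_of_conj {c : GL (Fin 3) F} {k : Matrix (Fin 3) (Fin 3) F} (hk : k ∈ K)
    (hns : ∀ r : F, k ≠ r • 1) (h : c.1 * k * (c⁻¹).1 ∈ K) :
    c ∈ Cfsg.Geo.subalgebraNormalizer K := by
  classical
  have : Nontrivial K := ⟨⟨0, 1, fun e => by
    have := congrArg (fun x : K => (x : Matrix (Fin 3) (Fin 3) F) 0 0) e
    simp at this⟩⟩
  have : NoZeroDivisors K := ⟨fun {a b} e => by
    rcases eq_zero_or_of_mul hK a.2 (congrArg Subtype.val e) with h | h
    · exact Or.inl (Subtype.ext h)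
    · exact Or.inr (Subtype.ext h)⟩
  have : IsDomain K := NoZeroDivisors.to_isDomain _
  have hso : IsSimpleOrder (Subalgebra F K) :=
    Subalgebra.isSimpleOrder_of_finrank_prime F K (by rw [hK.finrank_eq]; exact Nat.prime_three)
  let S : Subalgebra F K :=
    { carrier := {x | c.1 * x.1 * (c⁻¹).1 ∈ K}
      mul_mem' := fun {a b} ha hb => by
        have := mul_mem (Set.mem_ofPred_eq ▸ ha : _ ∈ K) hb
        simpa [mul_assoc] using this
      add_mem' := fun {a b} ha hb => by
        have := add_mem (Set.mem_ofPred_eq ▸ ha : _ ∈ K) hb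
        simpa [mul_add, add_mul] using this
      algebraMap_mem' := fun r => by
        show c.1 * (algebraMap F (Matrix (Fin 3) (Fin 3) F) r) * (c⁻¹).1 ∈ K
        rw [← Algebra.commutes, mul_assoc, Units.mul_inv, mul_one]
        exact K.algebraMap_mem r }
  have hS : S = ⊤ := (eq_bot_or_eq_top S).resolve_left fun e => by
    have hmem : (⟨k, hk⟩ : K) ∈ S := h
    rw [e, Algebra.mem_bot] at hmem
    obtain ⟨r, hr⟩ := hmem
    refine hns r ?_
    rw [← Algebra.algebraMap_eq_smul_one]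
    exact (congrArg Subtype.val hr).symm
  have hf : ∀ x ∈ K, c.1 * x * (c⁻¹).1 ∈ K := fun x hx =>
    (show (⟨x, hx⟩ : K) ∈ S from hS ▸ trivial : c.1 * x * (c⁻¹).1 ∈ K)
  intro x
  refine ⟨hf x, fun hx => ?_⟩
  let φ : K → K := fun y => ⟨c.1 * y.1 * (c⁻¹).1, hf _ y.2⟩
  have hφ : Function.Injective φ := fun y z e => by
    have := congrArg (fun w : K => (c⁻¹).1 * w.1 * c.1) e
    simp [φ, mul_assoc] at this
    exact this
  obtain ⟨y, hy⟩ := Finite.injective_iff_surjective.1 hφ ⟨_, hx⟩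
  have := congrArg (fun w : K => (c⁻¹).1 * w.1 * c.1) hy
  simp [φ, mul_assoc] at this
  exact this ▸ y.2

theorem cube_mem {u : GL (Fin 3) F} (hu : u ∈ Cfsg.Geo.subalgebraNormalizer K) :
    (u ^ 3).1 ∈ K := by
  classical
  have hfield : IsField K :=
    { exists_pair_ne := ⟨0, 1, fun e => by
        have := congrArg (fun x : K => (x : Matrix (Fin 3) (Fin 3) F) 0 0) e
        simp at this⟩
      mul_comm := fun a b => Subtype.ext (hK.comm _ a.2 _ b.2)
      mul_inv_cancel := fun {a} ha => by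
        obtain ⟨y, hy, e⟩ := hK.inv a.1 a.2 (fun h => ha (Subtype.ext h))
        exact ⟨⟨y, hy⟩, Subtype.ext e⟩ }
  letI : Field K := hfield.toField
  have : FiniteDimensional F K := FiniteDimensional.of_finrank_pos (by rw [hK.finrank_eq]; norm_num)
  let φ : K →ₐ[F] K :=
    { toFun := fun y => ⟨u.1 * y.1 * (u⁻¹).1, (hu _).1 y.2⟩
      map_one' := Subtype.ext (by simp)
      map_mul' := fun a b => Subtype.ext (by simp [mul_assoc])
      map_zero' := Subtype.ext (by simp)
      map_add' := fun a b => Subtype.ext (by simp [mul_add, add_mul])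
      commutes' := fun r => Subtype.ext (by
        show u.1 * (algebraMap F (Matrix (Fin 3) (Fin 3) F) r) * (u⁻¹).1 = algebraMap F _ r
        rw [← Algebra.commutes, mul_assoc, Units.mul_inv, mul_one]) }
  have hb : Function.Bijective φ := ⟨φ.toRingHom.injective,
    Finite.injective_iff_surjective.1 φ.toRingHom.injective⟩
  set ψ := AlgEquiv.ofBijective φ hb
  have h3 : Nat.card (K ≃ₐ[F] K) = 3 := by
    rw [IsGalois.card_aut_eq_finrank, hK.finrank_eq]
  have hψ : ψ ^ 3 = 1 := (congrArg (fun n : ℕ => ψ ^ n) h3).symm.trans pow_card_eq_one'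
  refine mem_of_commute hK fun k hk => ?_
  have := congrArg (fun e : K ≃ₐ[F] K => ((e ⟨k, hk⟩ : K) : Matrix (Fin 3) (Fin 3) F)) hψ
  simp only [pow_succ, pow_zero, one_mul, AlgEquiv.mul_apply, AlgEquiv.one_apply] at this
  change u.1 * (u.1 * (u.1 * k * (u⁻¹).1) * (u⁻¹).1) * (u⁻¹).1 = k at this
  rw [Units.val_pow_eq_pow_val]
  conv_rhs => rw [← this]
  simp [pow_succ, mul_assoc]

end Cfsg.Agent.SU3Geo98.Singer
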