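import Mathlib

/-!
Class three of S5777, case of the characteristic (helper99): counting by orbits of equal size.
-/

set_option autoImplicit false

namespace Cfsg.Agent.SU3Geo98.Singer

open MulAction

/-- If every moved point has an orbit of size `N` then `N` divides the number of moved points. -/
theorem card_modEq_fixed {H X : Type*} [Group H] [Finite H] [MulAction H X] [Finite X] {N : ℕ}
    (h : ∀ x : X, x ∈ fixedPoints H X ∨ (stabilizer H x).index = N) :
    Nat.card X ≡ Nat.card (fixedPoints H X) [MOD N] := by
  classical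
  have := Fintype.ofFinite X
  let S : SubMulAction H X :=
    { carrier := (fixedPoints H X)ᶜ
      smul_mem' := fun g x hx hg => hx (by
        intro k
        have h1 := hg (g * k * g⁻¹)
        rw [mul_smul, mul_smul, inv_smul_smul, smul_left_cancel_iff] at h1
        exact h1) }
  have horb : ∀ x : S, Nat.card (orbit H x) = N := fun x => by
    rw [Nat.card_coe_set_eq, ← index_stabilizer]
    rw [show stabilizer H x = stabilizer H (x : X) from SubMulAction.stabilizer_of_subMul x]
    exact (h x.1).resolve_left x.2
  have hS : N ∣ Nat.card S := by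
    rw [Nat.card_congr (selfEquivSigmaOrbits H S), Nat.card_sigma]
    refine Finset.dvd_sum fun ω _ => ?_
    rw [horb]
  have e : Nat.card X = Nat.card (fixedPoints H X) + Nat.card S := by
    rw [Nat.card_coe_set_eq, show Nat.card S = Nat.card ↥((fixedPoints H X)ᶜ) from rfl,
      Nat.card_coe_set_eq, Set.ncard_add_ncard_compl]
  obtain ⟨k, hk⟩ := hS
  rw [e, hk]
  exact Nat.modEq_iff_dvd.2 ⟨-(k : ℤ), by push_cast; ring⟩

/-- The order of a group from a homomorphism. -/
theorem card_eq_ker_mul_range {G H : Type*} [Group G] [Group H] (f : G →* H) :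
    Nat.card G = Nat.card f.ker * Nat.card f.range := by
  rw [Subgroup.card_eq_card_quotient_mul_card_subgroup f.ker,
    Nat.card_congr (QuotientGroup.quotientKerEquivRange f).toEquiv, mul_comm]

/-- A set stable under a subgroup is a union of cosets. -/
theorem card_dvd_of_stable {G : Type*} [CommGroup G] (E : Subgroup G) (S : Set G)
    (h : ∀ a ∈ E, ∀ x ∈ S, a * x ∈ S) : Nat.card E ∣ Nat.card S := by
  have e : S = (QuotientGroup.mk : G → G ⧸ E) ⁻¹' ((QuotientGroup.mk : G → G ⧸ E) '' S) := by
    refine Set.Subset.antisymm (fun x hx => ⟨x, hx, rfl⟩) ?_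
    rintro x ⟨y, hy, hxy⟩
    have h1 := h _ (QuotientGroup.eq.1 hxy) y hy
    rwa [mul_comm, mul_inv_cancel_left] at h1
  rw [e, Nat.card_congr (QuotientGroup.preimageMkEquivSubgroupProdSet E _), Nat.card_prod]
  exact dvd_mul_right _ _

/-- The fixed elements of a Frobenius, or of its negative, are at most `q`. -/
theorem card_root_le {F : Type*} [Field F] [Finite F] {q : ℕ} (hq : 1 < q) (c : F) :
    Nat.card {x : F // x ^ q = c * x} ≤ q := by
  classical
  open Polynomial in
  set P : F[X] := X ^ q - C c * X with hP
  have hdeg : P.natDegree = q := by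
    rw [hP, sub_eq_add_neg]
    rw [natDegree_add_eq_left_of_natDegree_lt, natDegree_X_pow]
    rw [natDegree_neg, natDegree_X_pow]
    exact lt_of_le_of_lt (natDegree_C_mul_le _ _) (by simpa using hq)
  have hP0 : P ≠ 0 := fun e => by rw [e, natDegree_zero] at hdeg; omega
  have hsub : Nat.card {x : F // x ^ q = c * x} ≤ Nat.card {x // x ∈ P.roots.toFinset} := by
    refine Nat.card_le_card_of_injective (fun x => ⟨x.1, ?_⟩) fun a b e => Subtype.ext (by simpa using e)
    rw [Multiset.mem_toFinset, mem_roots hP0, IsRoot.def, hP]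
    simp [x.2]
  rw [Nat.card_eq_finsetCard] at hsub
  exact hsub.trans ((Multiset.toFinset_card_le _).trans ((card_roots' _).trans_eq hdeg))

end Cfsg.Agent.SU3Geo98.Singer
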