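import Cfsg.Agent.SU3Geo98.C6.Frame
import Cfsg.Agent.SU3Geo98.Singer.CharOrbit

/-!
Class three of S5777, case of the characteristic (helper99): the stabiliser of the fixed point of a
regular unipotent element in a group of isometries without transvections.
-/

set_option autoImplicit false
set_option linter.unusedSectionVars false

namespace Cfsg.Agent.SU3Geo98.Singer

open Matrix
open SL3Geo34 (IsTransvec)
open SL3Geo32.Regular (TM TG TG_coe)
open SU3Geo98.C6 (f0 mul3 vec3 Up up_mul e0)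

variable {F : Type*} [Field F] [Fintype F]

/-- A group of isometries of the normal form without transvections, containing `TG 1`. -/
structure PCtx (σ : F ≃+* F) (q : ℕ) (M : Subgroup (GL (Fin 3) F)) : Prop where
  two : (2 : F) ≠ 0
  card : Fintype.card F = q ^ 2
  frob : ∀ x, σ x = x ^ q
  invol : ∀ x, σ (σ x) = x
  iso : ∀ g ∈ M, ∀ u v : Fin 3 → F,
    f0 σ ((g : Matrix (Fin 3) (Fin 3) F) *ᵥ u) ((g : Matrix (Fin 3) (Fin 3) F) *ᵥ v) = f0 σ u v
  det : ∀ g ∈ M, (g : Matrix (Fin 3) (Fin 3) F).det = 1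
  tg : TG 1 ∈ M
  no : ∀ g ∈ M, ¬ IsTransvec g
  scalar : ∀ w : F, w ^ Nat.gcd 3 (q + 1) = 1 →
    ∃ z ∈ M, (z : Matrix (Fin 3) (Fin 3) F) = w • 1

variable {σ : F ≃+* F} {q : ℕ} {M : Subgroup (GL (Fin 3) F)} (C : PCtx σ q M)
include C

theorem up_of_col {g : GL (Fin 3) F} (hg : g ∈ M) (h10 : g.1 1 0 = 0) (h20 : g.1 2 0 = 0) :
    Up g := by
  refine ⟨h10, h20, ?_⟩
  have h00 : g.1 0 0 ≠ 0 := fun h => by
    have hd := C.det g hg
    rw [Matrix.det_fin_three, h, h10, h20] at hd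
    simp at hd
  have h := C.iso g hg e0 ![0, 1, 0]
  simp [f0, vec3, h10, h20] at h
  exact h.resolve_left h00

theorem up_rel {g : GL (Fin 3) F} (hg : g ∈ M) (hu : Up g) :
    g.1 0 0 * σ (g.1 2 2) = 1 ∧ g.1 1 1 * σ (g.1 1 1) = 1 ∧
      g.1 0 0 * g.1 1 1 * g.1 2 2 = 1 ∧
      2 * g.1 1 1 * σ (g.1 1 2) = g.1 0 1 * σ (g.1 2 2) := by
  obtain ⟨h10, h20, h21⟩ := hu
  have a := C.iso g hg e0 ![0, 0, 1]
  have b := C.iso g hg ![0, 1, 0] ![0, 1, 0]
  have c := C.iso g hg ![0, 1, 0] ![0, 0, 1]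
  have e := C.det g hg
  rw [Matrix.det_fin_three, h10, h20, h21] at e
  simp [f0, vec3, h10, h20, h21] at a b c
  refine ⟨?_, ?_, by linear_combination e, by linear_combination c⟩
  · linear_combination a
  · refine mul_left_cancel₀ C.two ?_
    linear_combination b

theorem up_unit {g : GL (Fin 3) F} (hg : g ∈ M) (hu : Up g) :
    g.1 0 0 ≠ 0 ∧ g.1 1 1 ≠ 0 ∧ g.1 2 2 ≠ 0 := by
  obtain ⟨-, -, h, -⟩ := up_rel C hg hu
  refine ⟨?_, ?_, ?_⟩ <;> intro h' <;> simp [h'] at h

/-- The stabiliser of the first point. -/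
def stab : Subgroup ↥M where
  carrier := {g | g.1.1 1 0 = 0 ∧ g.1.1 2 0 = 0}
  mul_mem' {a b} ha hb := by
    obtain ⟨⟨h1, h2, -⟩, -⟩ := up_mul (up_of_col C a.2 ha.1 ha.2) (up_of_col C b.2 hb.1 hb.2)
    exact ⟨h1, h2⟩
  one_mem' := by constructor <;> simp
  inv_mem' {a} ha := by
    obtain ⟨h10, h20⟩ := ha
    have h00 : a.1.1 0 0 ≠ 0 := (up_unit C a.2 (up_of_col C a.2 h10 h20)).1
    have e : ((a⁻¹ : ↥M) : GL (Fin 3) F).1 * a.1.1 = 1 := by
      rw [Subgroup.coe_inv, Units.inv_mul]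
    have e1 := congrArg (fun X : Matrix (Fin 3) (Fin 3) F => X 1 0) e
    have e2 := congrArg (fun X : Matrix (Fin 3) (Fin 3) F => X 2 0) e
    simp [mul3, h10, h20] at e1 e2
    exact ⟨by simpa [h00] using e1, by simpa [h00] using e2⟩

theorem up_stab (g : stab C) : Up g.1.1 := up_of_col C g.1.2 g.2.1 g.2.2

/-- The action on the root group, as a homomorphism. -/
noncomputable def mu : stab C →* Fˣ :=
  MonoidHom.toHomUnits
    { toFun := fun g => g.1.1.1 1 1 / g.1.1.1 2 2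
      map_one' := by simp
      map_mul' := fun g h => by
        obtain ⟨-, -, e1, e2⟩ := up_mul (up_stab C g) (up_stab C h)
        simp only [Subgroup.coe_mul] at e1 e2 ⊢
        rw [e1, e2, mul_div_mul_comm] }

theorem mu_apply (g : stab C) : (mu C g : F) = g.1.1.1 1 1 / g.1.1.1 2 2 := rfl

/-- The first diagonal entry. -/
noncomputable def chi : (mu C).ker →* Fˣ :=
  MonoidHom.toHomUnits
    { toFun := fun g => g.1.1.1.1 0 0
      map_one' := by simp
      map_mul' := fun g h => by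
        obtain ⟨-, e0', -, -⟩ := up_mul (up_stab C g.1) (up_stab C h.1)
        simpa only [Subgroup.coe_mul] using e0' }

theorem chi_apply (g : (mu C).ker) : (chi C g : F) = g.1.1.1.1 0 0 := rfl

theorem ker_rel (g : (mu C).ker) : g.1.1.1.1 1 1 = g.1.1.1.1 2 2 ∧
    (chi C g : F) ^ 3 = 1 ∧ (chi C g : F) ^ (q + 1) = 1 := by
  have hg : (mu C g.1 : F) = 1 := by rw [(MonoidHom.mem_ker).1 g.2, Units.val_one]
  obtain ⟨n0, n1, n2⟩ := up_unit C g.1.1.2 (up_stab C g.1)
  rw [mu_apply, div_eq_one_iff_eq n2] at hg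
  obtain ⟨r1, r2, r3, -⟩ := up_rel C g.1.1.2 (up_stab C g.1)
  rw [hg] at r2 r3
  rw [chi_apply]
  set t := g.1.1.1.1 0 0
  set w := g.1.1.1.1 2 2
  have ht : t * σ t = 1 := by
    have h1 := congrArg σ r1
    rw [map_mul, map_one, C.invol] at h1
    linear_combination (σ t * w) * r1 + h1 - t * σ t * r2
  refine ⟨hg, ?_, ?_⟩
  · have hw : w = t := by
      refine mul_right_cancel₀ (show σ t ≠ 0 by simpa using n0) ?_
      have h1 := congrArg σ r1
      rw [map_mul, map_one, C.invol] at h1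
      linear_combination h1 - ht
    rw [hw] at r3
    linear_combination r3
  · rw [pow_succ', ← C.frob, ht]

/-- The root group. -/
noncomputable def root : Subgroup (mu C).ker := (chi C).ker

theorem root_diag (g : root C) : g.1.1.1.1.1 0 0 = 1 ∧ g.1.1.1.1.1 1 1 = 1 ∧
    g.1.1.1.1.1 2 2 = 1 := by
  have h0 : g.1.1.1.1.1 0 0 = 1 := by
    rw [← chi_apply C g.1, (MonoidHom.mem_ker).1 g.2, Units.val_one]
  obtain ⟨r1, -, -, -⟩ := up_rel C g.1.1.1.2 (up_stab C g.1.1)
  rw [h0, one_mul] at r1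
  have h2 : g.1.1.1.1.1 2 2 = 1 := σ.injective (by rw [r1, map_one])
  exact ⟨h0, (ker_rel C g.1).1.trans h2, h2⟩

theorem root_rel (g : root C) : g.1.1.1.1.1 0 1 = 2 * σ (g.1.1.1.1.1 1 2) := by
  obtain ⟨-, d1, d2⟩ := root_diag C g
  obtain ⟨-, -, -, r⟩ := up_rel C g.1.1.1.2 (up_stab C g.1.1)
  rw [d1, d2, map_one] at r
  linear_combination -r

/-- The root parameter. -/
def eta (g : root C) : F := g.1.1.1.1.1 1 2

theorem eta_mul (g h : root C) : eta C (g * h) = eta C g + eta C h := by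
  obtain ⟨-, g1, -⟩ := root_diag C g
  obtain ⟨-, -, h2⟩ := root_diag C h
  simp [eta, mul3, (up_stab C g.1.1).1, g1, h2]
  ring

theorem eta_eq_zero {g : root C} (h : eta C g = 0) : g = 1 := by
  obtain ⟨u10, u20, u21⟩ := up_stab C g.1.1
  obtain ⟨d0, d1, d2⟩ := root_diag C g
  have h01 := root_rel C g
  rw [eta] at h
  rw [h, map_zero, mul_zero] at h01
  by_contra hne
  refine C.no g.1.1.1.1 g.1.1.1.2 ⟨fun e => hne ?_, ?_⟩
  · exact Subtype.ext (Subtype.ext (Subtype.ext (Subtype.ext e)))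
  · ext i j
    fin_cases i <;> fin_cases j <;> simp [mul3, u10, u20, u21, d0, d1, d2, h, h01]

theorem eta_inj : Function.Injective (eta C) := by
  intro g h e
  have h1 : eta C (g * h⁻¹) = 0 := by
    have := eta_mul C (g * h⁻¹) h
    rw [inv_mul_cancel_right, e] at this
    linear_combination -this
  exact mul_inv_eq_one.1 (eta_eq_zero C h1)

/-- The given regular element in the root group. -/
theorem exists_one : ∃ t : root C, eta C t = 1 := by
  refine ⟨⟨⟨⟨⟨TG 1, C.tg⟩, by constructor <;> simp⟩, ?_⟩, ?_⟩, ?_⟩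
  · rw [MonoidHom.mem_ker]
    refine Units.ext ?_
    rw [mu_apply]
    simp [TM]
  · show (_ : (mu C).ker) ∈ (chi C).ker
    rw [MonoidHom.mem_ker]
    refine Units.ext ?_
    rw [chi_apply]
    simp
  · simp [eta, TM]

theorem eta_real (g : root C) : σ (eta C g) = eta C g := by
  obtain ⟨t, ht⟩ := exists_one C
  have e : g * t = t * g := eta_inj C (by rw [eta_mul, eta_mul, add_comm])
  have e' := congrArg (fun x : root C => x.1.1.1.1.1 0 2) e
  obtain ⟨g0, g1, g2⟩ := root_diag C g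
  obtain ⟨t0, t1, t2⟩ := root_diag C t
  simp [mul3, g0, g2, t0, t2, root_rel C g, root_rel C t] at e'
  rw [eta] at ht ⊢
  rw [ht, map_one] at e'
  refine mul_left_cancel₀ C.two ?_
  linear_combination e'

theorem mu_stable (k : stab C) (g : root C) : ∃ g' : root C, eta C g' = mu C k * eta C g := by
  have hk1 : k * g.1.1 * k⁻¹ ∈ (mu C).ker := (MonoidHom.normal_ker _).conj_mem _ g.1.2 k
  obtain ⟨-, -, e1, -⟩ := up_mul (up_stab C k) (up_stab C g.1.1)
  have hd : (k * g.1.1 * k⁻¹).1.1.1 0 0 = 1 := by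
    have := (up_mul (up_stab C (k * g.1.1 * k⁻¹)) (up_stab C k)).2.1
    have h2 := (up_mul (up_stab C k) (up_stab C g.1.1)).2.1
    simp only [← Subgroup.coe_mul, inv_mul_cancel_right] at this h2
    rw [h2, (root_diag C g).1, mul_one] at this
    exact (mul_eq_right₀ (up_unit C k.1.2 (up_stab C k)).1).1 this.symm
  let g' : root C := ⟨⟨_, hk1⟩, by
    show (_ : (mu C).ker) ∈ (chi C).ker
    rw [MonoidHom.mem_ker]
    exact Units.ext (by rw [chi_apply]; simpa using hd)⟩
  refine ⟨g', ?_⟩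
  have e : (g'.1.1 * k : stab C) = k * g.1.1 := inv_mul_cancel_right _ _
  have e' := congrArg (fun x : stab C => x.1.1.1 1 2) e
  obtain ⟨-, g1, g2⟩ := root_diag C g
  obtain ⟨-, g1', g2'⟩ := root_diag C g'
  have n2 := (up_unit C k.1.2 (up_stab C k)).2.2
  simp only [Subgroup.coe_mul, Units.val_mul, mul3, (up_stab C k).1, (up_stab C g'.1.1).1, g1', g2,
    zero_mul, zero_add] at e'
  simp only [eta, mu_apply]
  field_simp
  linear_combination e'

theorem card_eta_real : Nat.card (root C) ≤ q := by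
  have hq : 1 < q := by
    have := C.card
    have := Fintype.one_lt_card (α := F)
    rcases q with _ | _ | q <;> simp_all
  refine le_trans ?_ (card_root_le hq (1 : F))
  exact Nat.card_le_card_of_injective
    (fun g => ⟨eta C g, by rw [← C.frob, eta_real C g, one_mul]⟩)
    fun a b e => eta_inj C (Subtype.ext_iff.1 e)

theorem card_ker : Nat.card (mu C).ker = Nat.card (root C) * Nat.gcd 3 (q + 1) := by
  rw [card_eq_ker_mul_range (chi C)]
  show Nat.card (root C) * _ = _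
  congr 1
  set d := Nat.gcd 3 (q + 1)
  have hdF : d ∣ Nat.card Fˣ := by
    rw [Nat.card_units, Nat.card_eq_fintype_card, C.card]
    refine (Nat.gcd_dvd_right 3 (q + 1)).trans ⟨q - 1, ?_⟩
    rw [Nat.mul_sub, mul_one, add_mul, one_mul, ← pow_two]
    omega
  have hcard : Nat.card (powMonoidHom d : Fˣ →* Fˣ).ker = d := by
    rw [IsCyclic.card_powMonoidHom_ker, Nat.gcd_eq_right hdF]
  rw [show (chi C).range = (powMonoidHom d : Fˣ →* Fˣ).ker from ?_, hcard]
  apply le_antisymm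
  · rintro _ ⟨g, rfl⟩
    obtain ⟨-, h3, h4⟩ := ker_rel C g
    rw [MonoidHom.mem_ker, powMonoidHom_apply]
    exact pow_gcd_eq_one.2 ⟨Units.ext (by simpa using h3), Units.ext (by simpa using h4)⟩
  · intro w hw
    rw [MonoidHom.mem_ker, powMonoidHom_apply] at hw
    obtain ⟨z, hz, e⟩ := C.scalar (w : F) (by rw [← Units.val_pow_eq_pow_val, hw, Units.val_one])
    refine ⟨⟨⟨⟨z, hz⟩, by constructor <;> simp [e]⟩, ?_⟩, Units.ext ?_⟩
    · rw [MonoidHom.mem_ker]
      refine Units.ext ?_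
      rw [mu_apply]
      simp [e]
    · rw [chi_apply]
      simp [e]

end Cfsg.Agent.SU3Geo98.Singer
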