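import Cfsg.Agent.SU3Geo98.Singer.Commutant

/-!
A self-centralising cyclic trivial intersection subgroup of a finite subgroup of `GL (3, ℂ)`, whose
six eigenvalue ratios are distinct, is normal or small.
-/

set_option autoImplicit false

namespace Cfsg.Agent.SU3Geo98.Singer

open Matrix Module Polynomial
open scoped Classical

variable {G : Type*} [Group G] [Finite G]

theorem sum_pow_ratio {n : ℕ} (μ : Fin 3 → ℂ) (hn : ∀ i, μ i ^ n = 1) (hn0 : 0 < n)
    (hrat : ∀ i j k l, μ i * μ k = μ j * μ l → (i = j ∧ k = l) ∨ (i = l ∧ k = j)) :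
    ∑ m ∈ Finset.range n, ((∑ i, μ i ^ m) * (∑ i, (μ i)⁻¹ ^ m)) ^ 2 = 15 * (n : ℂ) := by
  have h0 : ∀ i, μ i ≠ 0 := fun i h => by
    have := hn i
    rw [h, zero_pow hn0.ne'] at this
    exact zero_ne_one this
  have key : ∀ i j k l : Fin 3,
      ∑ m ∈ Finset.range n, (μ i * (μ j)⁻¹ * (μ k * (μ l)⁻¹)) ^ m =
        if (i = j ∧ k = l) ∨ (i = l ∧ k = j) then (n : ℂ) else 0 := by
    intro i j k l
    split_ifs with h
    · have h1 : μ i * (μ j)⁻¹ * (μ k * (μ l)⁻¹) = 1 := by
        have hi := h0 i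
        have hk := h0 k
        rcases h with ⟨rfl, rfl⟩ | ⟨rfl, rfl⟩ <;> field_simp
      simp [h1]
    · have h1 : μ i * (μ j)⁻¹ * (μ k * (μ l)⁻¹) ≠ 1 := fun e => h (hrat i j k l (by
        have hj := h0 j
        have hl := h0 l
        field_simp at e
        linear_combination e))
      rw [geom_sum_eq h1, mul_pow, mul_pow, mul_pow, inv_pow, inv_pow, hn, hn, hn, hn]
      simp
  calc ∑ m ∈ Finset.range n, ((∑ i, μ i ^ m) * (∑ i, (μ i)⁻¹ ^ m)) ^ 2
      = ∑ m ∈ Finset.range n, ∑ i, ∑ j, ∑ k, ∑ l, (μ i * (μ j)⁻¹ * (μ k * (μ l)⁻¹)) ^ m := by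
        refine Finset.sum_congr rfl fun m _ => ?_
        simp only [Fin.sum_univ_three, mul_pow]
        ring
    _ = ∑ i, ∑ j, ∑ k, ∑ l, ∑ m ∈ Finset.range n, (μ i * (μ j)⁻¹ * (μ k * (μ l)⁻¹)) ^ m := by
        rw [Finset.sum_comm]
        refine Finset.sum_congr rfl fun i _ => ?_
        rw [Finset.sum_comm]
        refine Finset.sum_congr rfl fun j _ => ?_
        rw [Finset.sum_comm]
        refine Finset.sum_congr rfl fun k _ => ?_
        rw [Finset.sum_comm]
    _ = 15 * (n : ℂ) := by
        simp only [key, Fin.sum_univ_three]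
        simp [Fin.ext_iff]
        ring

theorem inv_val_diagonal (ψ : G →* GL (Fin 3) ℂ) {x : G} {μ : Fin 3 → ℂ}
    (hx : (ψ x).val = diagonal μ) (h0 : ∀ i, μ i ≠ 0) :
    (ψ x⁻¹).val = diagonal fun i => (μ i)⁻¹ := by
  have h1 : (ψ x⁻¹).val * (ψ x).val = 1 := by
    rw [← Units.val_mul, ← map_mul, inv_mul_cancel, map_one, Units.val_one]
  refine left_inv_eq_right_inv h1 ?_
  rw [hx, Matrix.diagonal_mul_diagonal, ← Matrix.diagonal_one]
  congr 1
  funext i
  exact mul_inv_cancel₀ (h0 i)

/-- The diagonal case. -/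
theorem normal_of_diagonal (ψ : G →* GL (Fin 3) ℂ) (hψ : Function.Injective ψ) (g : G)
    (Z : Subgroup G) (hZC : Z ≤ Subgroup.zpowers g)
    (hZ : ∀ z ∈ Z, ∃ c : ℂ, (ψ z).val = c • 1)
    (hcent : Subgroup.centralizer ({g} : Set G) ≤ Subgroup.zpowers g)
    (hN : Nat.card (Subgroup.normalizer (Subgroup.zpowers g : Set G)) =
      3 * Nat.card (Subgroup.zpowers g))
    (hTI : ∀ x ∈ Subgroup.zpowers g, x ∉ Z → ∀ y, y * x * y⁻¹ ∈ Subgroup.zpowers g →
      y ∈ Subgroup.normalizer (Subgroup.zpowers g : Set G))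
    (μ : Fin 3 → ℂ) (hdiag : (ψ g).val = diagonal μ)
    (hrat : ∀ i j k l, μ i * μ k = μ j * μ l → (i = j ∧ k = l) ∨ (i = l ∧ k = j))
    (hc : 13 * Nat.card Z < Nat.card (Subgroup.zpowers g)) :
    (Subgroup.zpowers g).Normal := by
  let _ := Fintype.ofFinite G
  set C := Subgroup.zpowers g with hC
  set N := Subgroup.normalizer (C : Set G) with hNdef
  have hCN : C ≤ N := Subgroup.le_normalizer
  have hinj : Function.Injective μ := fun i j h =>
    (hrat i j j j (by rw [h])).elim And.left And.left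
  have hn0 : 0 < orderOf g := orderOf_pos g
  have hpow : ∀ k : ℕ, (ψ (g ^ k)).val = diagonal (fun i => μ i ^ k) := fun k => by
    rw [map_pow, Units.val_pow_eq_pow_val, hdiag, Matrix.diagonal_pow]
    rfl
  have hμn : ∀ i, μ i ^ orderOf g = 1 := fun i => by
    have := hpow (orderOf g)
    rw [pow_orderOf_eq_one, map_one, Units.val_one, ← Matrix.diagonal_one] at this
    exact (congr_fun (Matrix.diagonal_injective this) i).symm
  have h0 : ∀ i, μ i ≠ 0 := fun i h => by
    have := hμn i
    rw [h, zero_pow hn0.ne'] at this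
    exact zero_ne_one this
  have hmemC : ∀ x ∈ C, ∃ k : ℕ, g ^ k = x := fun x hx => by
    obtain ⟨k, hk⟩ := (isOfFinOrder_of_finite g).mem_powers_iff_mem_zpowers.2 hx
    exact ⟨k, hk⟩
  have hdet : ∀ y : G, (ψ y).val.det ≠ 0 := fun y =>
    ((Matrix.isUnit_iff_isUnit_det _).1 (ψ y).isUnit).ne_zero
  have hval : ∀ y z : G, (ψ y).val * (ψ z).val = (ψ (y * z)).val := fun y z => by
    rw [map_mul, Units.val_mul]
  -- the element of order three modulo `C`
  obtain ⟨w, hwN, hwC⟩ : ∃ w ∈ N, w ∉ C := by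
    by_contra hh
    push Not at hh
    have h1 := Subgroup.card_le_of_le (hh : N ≤ C)
    have h2 : 0 < Nat.card C := Nat.card_pos
    omega
  obtain ⟨k, hk⟩ := hmemC _ ((Subgroup.mem_normalizer_iff.1 hwN g).1 (Subgroup.mem_zpowers g))
  have hwk : (ψ w).val * diagonal μ = diagonal (fun i => μ i ^ k) * (ψ w).val := by
    rw [← hdiag, ← hpow, hk, hval, hval, inv_mul_cancel_right]
  obtain ⟨π, hz, hA, he⟩ := exists_perm_of_conj (hdet w) hinj hwk
  have hπ1 : π ≠ 1 := by
    rintro rfl
    have h1 : g ^ k = g := hψ (Units.ext (by rw [hpow, hdiag]; exact congrArg _ (funext he)))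
    refine hwC (hcent (Subgroup.mem_centralizer_singleton_iff.2 ?_))
    rw [h1] at hk
    exact (mul_inv_eq_iff_eq_mul.1 hk.symm)
  have hwd : ∀ d : Fin 3 → ℂ, (ψ w).val * diagonal d * (ψ w⁻¹).val =
      diagonal fun i => d (π i) := fun d => by
    rw [diag_conj_of_monomial hz, Matrix.mul_assoc, hval, mul_inv_cancel, map_one, Units.val_one,
      Matrix.mul_one]
  have hπ3 : π ^ 3 = 1 := by
    have hidx : (C.subgroupOf N).index = 3 := by
      have h1 := Subgroup.card_mul_index (C.subgroupOf N)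
      rw [Nat.card_congr (Subgroup.subgroupOfEquivOfLe hCN).toEquiv, hN, mul_comm 3] at h1
      exact mul_left_cancel₀ Nat.card_pos.ne' h1
    have h3 : w ^ 3 ∈ C := by
      have : (C.subgroupOf N).Normal := Subgroup.normal_in_normalizer
      have := Subgroup.pow_index_mem (C.subgroupOf N) ⟨w, hwN⟩
      rw [hidx, Subgroup.mem_subgroupOf] at this
      exact this
    obtain ⟨m, hm⟩ := hmemC _ h3
    have e1 : (ψ (w ^ 3)).val * diagonal μ * (ψ (w ^ 3)⁻¹).val = diagonal μ := by
      rw [← hm, ← hdiag, hval, hval]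
      congr 2
      group
    have e2 : (ψ (w ^ 3)).val * diagonal μ * (ψ (w ^ 3)⁻¹).val =
        (ψ w).val * ((ψ w).val * ((ψ w).val * diagonal μ * (ψ w⁻¹).val) * (ψ w⁻¹).val) *
          (ψ w⁻¹).val := by
      simp only [pow_succ, pow_zero, one_mul, _root_.mul_inv_rev, map_mul, Units.val_mul,
        Matrix.mul_assoc]
    rw [hwd, hwd, hwd, e1] at e2
    refine Equiv.ext fun i => (hinj ?_).symm
    simpa [pow_succ] using congr_fun (Matrix.diagonal_injective e2) i
  -- the commutant is three dimensional unless `C` is normal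
  by_contra hnorm
  set R := (Representation.linHom (conjRep ψ) (conjRep ψ)).invariants with hR
  let E : Fin 3 → Fin 3 → Matrix (Fin 3) (Fin 3) ℂ := fun i j => Matrix.single i j 1
  let Λ : R →ₗ[ℂ] (Fin 3 → ℂ) :=
    { toFun := fun T => ![T.1 1 0 0, T.1 (E 0 (π 0)) 0 (π 0), T.1 (E (π 0) 0) (π 0) 0]
      map_add' := fun S T => by ext i; fin_cases i <;> simp
      map_smul' := fun c T => by ext i; fin_cases i <;> simp }
  have hΛ : Function.Injective Λ := by
    suffices hker : ∀ T ∈ R, T 1 0 0 = 0 → T (E 0 (π 0)) 0 (π 0) = 0 →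
        T (E (π 0) 0) (π 0) 0 = 0 → T = 0 by
      rintro ⟨S, hS⟩ ⟨T, hT⟩ h
      have e0 : S 1 0 0 = T 1 0 0 := congr_fun h 0
      have e1 : S (E 0 (π 0)) 0 (π 0) = T (E 0 (π 0)) 0 (π 0) := congr_fun h 1
      have e2 : S (E (π 0) 0) (π 0) 0 = T (E (π 0) 0) (π 0) 0 := congr_fun h 2
      refine Subtype.ext (sub_eq_zero.1 (hker (S - T) (sub_mem hS hT) ?_ ?_ ?_)) <;>
        simp only [LinearMap.sub_apply, Matrix.sub_apply] <;>
        first
          | exact sub_eq_zero.2 e0
          | exact sub_eq_zero.2 e1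
          | exact sub_eq_zero.2 e2
    intro T hT t1 ta tb
    have hsupp : ∀ i j a b, T (E i j) a b ≠ 0 → (i = a ∧ b = j) ∨ (i = j ∧ b = a) := by
      intro i j a b hne
      have hE : (ψ g).val * E i j * (ψ g⁻¹).val = (μ i * (μ j)⁻¹) • E i j := by
        rw [hdiag, inv_val_diagonal ψ hdiag h0]
        ext r s
        simp only [E, Matrix.diagonal_mul, Matrix.mul_diagonal, Matrix.single_apply,
          Matrix.smul_apply, smul_eq_mul]
        split_ifs with hrs
        · obtain ⟨rfl, rfl⟩ := hrs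
          ring
        · ring
      have h1 := congr_fun (congr_fun (mem_invariants ψ hT g (E i j)) a) b
      rw [hE, map_smul, hdiag, inv_val_diagonal ψ hdiag h0] at h1
      simp only [Matrix.diagonal_mul, Matrix.mul_diagonal, Matrix.smul_apply, smul_eq_mul] at h1
      have h2 : μ i * (μ j)⁻¹ = μ a * (μ b)⁻¹ :=
        mul_right_cancel₀ hne (by linear_combination h1)
      refine hrat i a b j ?_
      have hj := h0 j
      have hb := h0 b
      field_simp at h2
      linear_combination h2
    have hoff : ∀ i j, i ≠ j → T (E i j) i j = 0 → T (E i j) = 0 := fun i j hij h0' => by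
      ext a b
      by_contra hne
      rcases hsupp i j a b hne with ⟨rfl, rfl⟩ | ⟨e, -⟩
      · exact hne h0'
      · exact hij e
    have hdia : ∀ i, T (E i i) = diagonal (fun a => T (E i i) a a) := fun i => by
      ext a b
      rcases eq_or_ne a b with rfl | hab
      · simp
      · rw [Matrix.diagonal_apply_ne _ hab]
        by_contra hne
        rcases hsupp i i a b hne with ⟨rfl, rfl⟩ | ⟨-, e⟩
        · exact hab rfl
        · exact hab e.symm
    have hshift : ∀ i j, E i j = ((ψ w).val j (π j) * ((ψ w).val i (π i))⁻¹) •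
        ((ψ w).val * E (π i) (π j) * (ψ w⁻¹).val) := fun i j => by
      have h1 : (ψ w).val * E (π i) (π j) =
          (((ψ w).val i (π i)) * ((ψ w).val j (π j))⁻¹) • (E i j * (ψ w).val) := by
        ext r s
        simp only [E, Matrix.smul_apply, smul_eq_mul, Matrix.mul_apply, Matrix.single_apply,
          ite_mul, mul_ite, one_mul, mul_one, zero_mul, mul_zero, ite_and, Finset.sum_ite_eq,
          Finset.mem_univ, if_true]
        by_cases hs : π j = s
        · subst hs
          by_cases hr : i = r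
          · subst hr
            simp [hA j]
          · have := hz r (π i) (fun e => hr (π.injective e))
            simp [this, hr]
        · have hs' := hz j s (Ne.symm hs)
          simp [hs, hs']
      rw [h1, Matrix.smul_mul, Matrix.mul_assoc, hval, mul_inv_cancel, map_one, Units.val_one,
        Matrix.mul_one, smul_smul]
      have := hA i
      have := hA j
      field_simp
      simp
    have hzero : ∀ i j, T (E (π i) (π j)) = 0 → T (E i j) = 0 := fun i j h => by
      rw [hshift i j, map_smul, mem_invariants ψ hT, h]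
      simp
    have hπ0 : π 0 ≠ 0 := by
      rcases three_cycle_orbit π hπ1 hπ3 with ⟨a, -, -⟩ | ⟨a, -, -⟩ <;> rw [a] <;> decide
    have za := hoff _ _ hπ0.symm ta
    have zb := hoff _ _ hπ0 tb
    have hoffz : ∀ i j, i ≠ j → T (E i j) = 0 := by
      rcases three_cycle_orbit π hπ1 hπ3 with ⟨a, b, c⟩ | ⟨a, c, b⟩
      · rw [a] at za zb
        have h20 := hzero 2 0 (by rw [c, a]; exact za)
        have h12 := hzero 1 2 (by rw [b, c]; exact h20)
        have h02 := hzero 0 2 (by rw [a, c]; exact zb)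
        have h21 := hzero 2 1 (by rw [c, b]; exact h02)
        intro i j hij
        fin_cases i <;> fin_cases j <;> first | exact absurd rfl hij | assumption
      · rw [a] at za zb
        have h10 := hzero 1 0 (by rw [b, a]; exact za)
        have h21 := hzero 2 1 (by rw [c, b]; exact h10)
        have h01 := hzero 0 1 (by rw [a, b]; exact zb)
        have h12 := hzero 1 2 (by rw [b, c]; exact h01)
        intro i j hij
        fin_cases i <;> fin_cases j <;> first | exact absurd rfl hij | assumption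
    -- the diagonal part
    let f : Fin 3 → Fin 3 → ℂ := fun i a => T (E i i) a a
    have hf : ∀ i, T (E i i) = diagonal (f i) := hdia
    have hsum1 : E 0 0 + E 1 1 + E 2 2 = 1 := by
      ext r s
      fin_cases r <;> fin_cases s <;> simp [E]
    have hT1d : T 1 = diagonal fun a => f 0 a + f 1 a + f 2 a := by
      rw [← hsum1, map_add, map_add, hf, hf, hf, Matrix.diagonal_add, Matrix.diagonal_add]
    have hT1w : ∀ a, f 0 (π a) + f 1 (π a) + f 2 (π a) = f 0 a + f 1 a + f 2 a := fun a => by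
      have h1 := mem_invariants ψ hT w 1
      rw [Matrix.mul_one, hval, mul_inv_cancel, map_one, Units.val_one, hT1d, hwd] at h1
      exact (congr_fun (Matrix.diagonal_injective h1) a).symm
    have hz0 : f 0 0 + f 1 0 + f 2 0 = 0 := by
      have := congr_fun (congr_fun hT1d 0) 0
      rw [t1, Matrix.diagonal_apply_eq] at this
      exact this.symm
    have hshiftd : ∀ i a, f i a = f (π i) (π a) := fun i a => by
      have h1 : T (E i i) = (ψ w).val * T (E (π i) (π i)) * (ψ w⁻¹).val := by
        conv_lhs => rw [hshift i i, mul_inv_cancel₀ (hA i), one_smul, mem_invariants ψ hT]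
      rw [hf, hf, hwd] at h1
      exact congr_fun (Matrix.diagonal_injective h1) a
    have hrange : ∀ X, T X = diagonal fun a => X 0 0 * f 0 a + X 1 1 * f 1 a + X 2 2 * f 2 a := by
      intro X
      have hX : X = ∑ i, ∑ j, X i j • E i j := by
        conv_lhs => rw [Matrix.matrix_eq_sum_single X]
        simp [E, Matrix.smul_single]
      conv_lhs => rw [hX]
      simp only [Fin.sum_univ_three, map_add, map_smul]
      rw [hoffz 0 1 (by decide), hoffz 0 2 (by decide), hoffz 1 0 (by decide),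
        hoffz 1 2 (by decide), hoffz 2 0 (by decide), hoffz 2 1 (by decide), hf, hf, hf]
      ext a b
      rcases eq_or_ne a b with rfl | hab
      · simp
      · simp [hab]
    have hs3 : f 0 0 + f 0 1 + f 0 2 = 0 := by
      rcases three_cycle_orbit π hπ1 hπ3 with ⟨a, b, c⟩ | ⟨a, c, b⟩
      · have e1 := hshiftd 1 0
        have e2 := hshiftd 2 0
        have e3 := hshiftd 2 1
        simp only [a, b, c] at e1 e2 e3
        linear_combination hz0 - e1 - e2 - e3
      · have e1 := hshiftd 1 0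
        have e2 := hshiftd 2 0
        have e3 := hshiftd 1 2
        simp only [a, b, c] at e1 e2 e3
        linear_combination hz0 - e1 - e2 - e3
    by_cases hf0 : f 0 = 0
    · have hfz : ∀ i a, f i a = 0 := by
        have hz1 : ∀ i a, π i = 0 → f i a = 0 := fun i a hi => by rw [hshiftd, hi, hf0]; rfl
        have hz2 : ∀ i a, π (π i) = 0 → f i a = 0 := fun i a hi => by
          rw [hshiftd, hz1 _ _ hi]
        intro i a
        rcases three_cycle_orbit π hπ1 hπ3 with ⟨p0, p1, p2⟩ | ⟨p0, p2, p1⟩ <;> fin_cases i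
        · exact congr_fun hf0 a
        · exact hz2 _ a (by simp [p1, p2])
        · exact hz1 _ a p2
        · exact congr_fun hf0 a
        · exact hz1 _ a p1
        · exact hz2 _ a (by simp [p1, p2])
      refine LinearMap.ext fun X => ?_
      show T X = 0
      rw [hrange]
      simp [hfz]
    exfalso
    obtain ⟨X, D, hD, hTX⟩ : ∃ X, ∃ D : Fin 3 → ℂ, Function.Injective D ∧ T X = diagonal D := by
      rcases injective_shift π hπ1 hπ3 (f 0) hf0 hs3 with h | h
      · exact ⟨E 0 0, f 0, h, hf 0⟩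
      · refine ⟨E 0 0 + (2 : ℂ) • E (π.symm 0) (π.symm 0), _, h, ?_⟩
        rw [map_add, map_smul, hf, hf, ← Matrix.diagonal_smul, Matrix.diagonal_add]
        congr 1
        funext a
        simp only [Pi.smul_apply, smul_eq_mul]
        rw [hshiftd (π.symm 0) a, Equiv.apply_symm_apply]
    refine hnorm ⟨fun x hx y => ?_⟩
    have h1 := mem_invariants ψ hT y X
    rw [hTX, hrange] at h1
    obtain ⟨σ', hz', -, -⟩ := exists_perm_of_conj (hdet y) hD (e := _) (by
      rw [h1, Matrix.mul_assoc, hval, inv_mul_cancel, map_one, Units.val_one, Matrix.mul_one])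
    obtain ⟨m, rfl⟩ := hmemC x hx
    have hyd : (ψ (y * g ^ m * y⁻¹)).val = diagonal fun i => μ (σ' i) ^ m := by
      rw [map_mul, map_mul, Units.val_mul, Units.val_mul, hpow, diag_conj_of_monomial hz',
        Matrix.mul_assoc, hval, mul_inv_cancel, map_one, Units.val_one, Matrix.mul_one]
    refine hcent (Subgroup.mem_centralizer_singleton_iff.2 (hψ (Units.ext ?_)))
    rw [← hval (y * g ^ m * y⁻¹) g, ← hval g (y * g ^ m * y⁻¹), hyd, hdiag,
      Matrix.diagonal_mul_diagonal, Matrix.diagonal_mul_diagonal]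
    congr 1
    funext a
    ring
  have hdim : finrank ℂ R ≤ 3 := by
    have := LinearMap.finrank_le_finrank_of_injective hΛ
    simpa using this
  have hsum := sum_normSq ψ
  let φ : G → ℝ := fun x => Complex.normSq (ψ x).val.trace ^ 2
  have hφ0 : ∀ x, 0 ≤ φ x := fun x => sq_nonneg _
  have hφc : ∀ y x, φ (y * x * y⁻¹) = φ x := fun y x => by
    show Complex.normSq _ ^ 2 = Complex.normSq _ ^ 2
    rw [map_mul, map_mul, Units.val_mul, Units.val_mul, map_inv, Matrix.trace_mul_comm,
      ← Matrix.mul_assoc, Units.inv_mul, Matrix.one_mul]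
  have hφZ : ∀ z ∈ Z, φ z = 81 := fun z hz => by
    obtain ⟨c, hcz⟩ := hZ z hz
    have h1 : (ψ (z ^ orderOf z)).val = 1 := by
      rw [pow_orderOf_eq_one, map_one, Units.val_one]
    rw [map_pow, Units.val_pow_eq_pow_val, hcz, _root_.smul_pow, one_pow] at h1
    have hc1 : c ^ orderOf z = 1 := by
      simpa using congr_fun (congr_fun h1 0) 0
    have hn : ‖c‖ = 1 := Complex.norm_eq_one_of_pow_eq_one hc1 (orderOf_pos z).ne'
    show Complex.normSq _ ^ 2 = 81
    rw [hcz, Matrix.trace_smul, Matrix.trace_one, Fintype.card_fin, smul_eq_mul, map_mul,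
      Complex.normSq_eq_norm_sq c, hn]
    simp
    norm_num
  have hCfin : Finset.univ.filter (· ∈ C) = (Finset.range (orderOf g)).image (g ^ ·) := by
    ext x
    simp only [Finset.mem_filter, Finset.mem_univ, true_and, Finset.mem_image, Finset.mem_range]
    constructor
    · intro hx
      obtain ⟨k, rfl⟩ := hmemC x hx
      exact ⟨k % orderOf g, Nat.mod_lt _ hn0, pow_mod_orderOf g k⟩
    · rintro ⟨k, -, rfl⟩
      exact pow_mem (Subgroup.mem_zpowers g) k
  have hsumC : ∑ x ∈ Finset.univ.filter (· ∈ C), φ x = 15 * (orderOf g : ℝ) := by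
    rw [hCfin, Finset.sum_image (fun a ha b hb h => pow_injOn_Iio_orderOf
      (Finset.mem_range.1 ha) (Finset.mem_range.1 hb) h)]
    refine Complex.ofReal_injective ?_
    push_cast
    rw [← sum_pow_ratio μ hμn hn0 hrat]
    refine Finset.sum_congr rfl fun m _ => ?_
    show ((Complex.normSq _ ^ 2 : ℝ) : ℂ) = _
    rw [Complex.ofReal_pow, Complex.normSq_eq_conj_mul_self, ← trace_inv, hpow,
      inv_val_diagonal ψ (hpow m) (fun i => pow_ne_zero _ (h0 i)), Matrix.trace_diagonal,
      Matrix.trace_diagonal, mul_comm]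
    simp only [inv_pow]
  set S := Finset.univ.filter (fun x => x ∈ C ∧ x ∉ Z) with hS
  have hsumS : ∑ x ∈ S, φ x = 15 * (Nat.card C : ℝ) - 81 * (Nat.card Z : ℝ) := by
    have h1 := Finset.sum_filter_add_sum_filter_not (Finset.univ.filter (· ∈ C)) (· ∈ Z) φ
    rw [Finset.filter_filter, Finset.filter_filter, hsumC, ← Nat.card_zpowers, ← hS] at h1
    have h2 : ∑ x ∈ Finset.univ.filter (fun x => x ∈ C ∧ x ∈ Z), φ x = 81 * (Nat.card Z : ℝ) := by
      rw [Finset.sum_congr rfl fun x hx => hφZ x (Finset.mem_filter.1 hx).2.2, Finset.sum_const,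
        nsmul_eq_mul, mul_comm, Nat.card_eq_fintype_card, Fintype.card_subtype]
      congr 2
      congr 1
      ext x
      simpa using fun h => hZC h
    linarith
  have hlow : (N.index : ℝ) * ∑ x ∈ S, φ x ≤ ∑ x, φ x := by
    have h1 : ∑ p ∈ (Finset.univ : Finset (G ⧸ N)) ×ˢ S, φ (p.1.out * p.2 * p.1.out⁻¹) =
        (N.index : ℝ) * ∑ x ∈ S, φ x := by
      simp only [hφc]
      rw [Finset.sum_product]
      simp [Subgroup.index, Nat.card_eq_fintype_card]
    rw [← h1, ← Finset.sum_image (g := fun p : (G ⧸ N) × G => p.1.out * p.2 * p.1.out⁻¹)]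
    · exact Finset.sum_le_univ_sum_of_nonneg hφ0
    · rintro ⟨a, x⟩ hx ⟨b, y⟩ hy he'
      simp only [Finset.coe_product, Set.mem_prod, Finset.mem_coe, hS, Finset.mem_filter,
        Finset.mem_univ, true_and] at hx hy
      have h2 : (b.out⁻¹ * a.out) * x * (b.out⁻¹ * a.out)⁻¹ = y := by
        calc _ = b.out⁻¹ * (a.out * x * a.out⁻¹) * b.out := by group
          _ = y := by rw [show a.out * x * a.out⁻¹ = b.out * y * b.out⁻¹ from he']; group
      have h3 := hTI x hx.1 hx.2 _ (by rw [h2]; exact hy.1)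
      have hab : a = b := by
        rw [← QuotientGroup.out_eq' a, ← QuotientGroup.out_eq' b]
        exact (QuotientGroup.eq.2 h3).symm
      subst hab
      rw [inv_mul_cancel, one_mul, inv_one, mul_one] at h2
      rw [h2]
  have hG : (Nat.card G : ℝ) = N.index * (3 * Nat.card C) := by
    rw [← Subgroup.index_mul_card N, hN]
    push_cast
    rfl
  have hidx : (0 : ℝ) < N.index := by
    exact_mod_cast Nat.pos_of_ne_zero N.index_ne_zero_of_finite
  have hb : ∑ x, φ x ≤ (Nat.card G : ℝ) * 3 := by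
    rw [hsum]
    exact mul_le_mul_of_nonneg_left (by exact_mod_cast hdim) (Nat.cast_nonneg _)
  have hkey : (15 * (Nat.card C : ℝ) - 81 * (Nat.card Z : ℝ)) ≤ 9 * Nat.card C := by
    refine le_of_mul_le_mul_left ?_ hidx
    rw [← hsumS]
    calc _ ≤ ∑ x, φ x := hlow
      _ ≤ _ := hb
      _ = _ := by rw [hG]; ring
  have hkey' : 6 * Nat.card C ≤ 81 * Nat.card Z := by
    exact_mod_cast (by linarith : (6 : ℝ) * Nat.card C ≤ 81 * Nat.card Z)
  obtain ⟨t, ht⟩ := Subgroup.card_dvd_of_le hZC
  rw [ht] at hc hkey'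
  have h13 : 13 < t := Nat.lt_of_mul_lt_mul_left (by linarith : Nat.card Z * 13 < Nat.card Z * t)
  nlinarith [Nat.card_pos (α := Z)]

/-- The bound for an element whose characteristic polynomial has the given roots. -/
theorem normal_of_charpoly (ψ : G →* GL (Fin 3) ℂ) (hψ : Function.Injective ψ) (g : G)
    (Z : Subgroup G) (hZC : Z ≤ Subgroup.zpowers g)
    (hZ : ∀ z ∈ Z, ∃ c : ℂ, (ψ z).val = c • 1)
    (hcent : Subgroup.centralizer ({g} : Set G) ≤ Subgroup.zpowers g)
    (hN : Nat.card (Subgroup.normalizer (Subgroup.zpowers g : Set G)) =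
      3 * Nat.card (Subgroup.zpowers g))
    (hTI : ∀ x ∈ Subgroup.zpowers g, x ∉ Z → ∀ y, y * x * y⁻¹ ∈ Subgroup.zpowers g →
      y ∈ Subgroup.normalizer (Subgroup.zpowers g : Set G))
    (μ : Fin 3 → ℂ) (hμ : (ψ g).val.charpoly = ∏ i, (X - Polynomial.C (μ i)))
    (hrat : ∀ i j k l, μ i * μ k = μ j * μ l → (i = j ∧ k = l) ∨ (i = l ∧ k = j))
    (hc : 13 * Nat.card Z < Nat.card (Subgroup.zpowers g)) :
    (Subgroup.zpowers g).Normal := by
  have hinj : Function.Injective μ := fun i j h =>
    (hrat i j j j (by rw [h])).elim And.left And.left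
  obtain ⟨Q, hQ⟩ := exists_conj_diagonal _ μ hμ hinj
  refine normal_of_diagonal ((MulAut.conj Q⁻¹).toMonoidHom.comp ψ)
    ((MulAut.conj Q⁻¹).injective.comp hψ) g Z hZC (fun z hz => ?_) hcent hN hTI μ ?_ hrat hc
  · obtain ⟨c, hcz⟩ := hZ z hz
    refine ⟨c, ?_⟩
    simp [hcz]
  · show ((Q⁻¹).val * (ψ g).val * (Q⁻¹)⁻¹.val) = diagonal μ
    rw [inv_inv, Matrix.mul_assoc, hQ, ← Matrix.mul_assoc, Units.inv_mul, Matrix.one_mul]

end Cfsg.Agent.SU3Geo98.Singer
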