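import Mathlib

/-!
Small facts on three by three monomial matrices, and diagonalisation with distinct roots.
-/

set_option autoImplicit false

namespace Cfsg.Agent.SU3Geo98.Singer

open Matrix Polynomial

/-- A matrix moving a diagonal matrix with distinct entries to a diagonal one is monomial. -/
theorem exists_perm_of_conj {A : Matrix (Fin 3) (Fin 3) ℂ} (hA : A.det ≠ 0) {d e : Fin 3 → ℂ}
    (hd : Function.Injective d) (h : A * diagonal d = diagonal e * A) :
    ∃ π : Equiv.Perm (Fin 3), (∀ i j, j ≠ π i → A i j = 0) ∧ (∀ i, A i (π i) ≠ 0) ∧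
      ∀ i, e i = d (π i) := by
  have hent : ∀ i j, A i j * d j = e i * A i j := fun i j => by
    have := congr_fun (congr_fun h i) j
    simpa [Matrix.mul_diagonal, Matrix.diagonal_mul] using this
  have hrow : ∀ i, ∃ j, A i j ≠ 0 := fun i => by
    by_contra hc
    push Not at hc
    exact hA (Matrix.det_eq_zero_of_row_eq_zero i hc)
  choose π hπ using hrow
  have he : ∀ i, e i = d (π i) := fun i =>
    mul_right_cancel₀ (hπ i) (by rw [← hent i (π i)]; ring)
  have hz : ∀ i j, j ≠ π i → A i j = 0 := fun i j hj => by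
    by_contra hne
    have : d j = e i := mul_left_cancel₀ hne (by rw [hent i j]; ring)
    exact hj (hd (this.trans (he i)))
  have hbij : Function.Bijective π := by
    rw [← Finite.surjective_iff_bijective]
    intro j
    by_contra hc
    push Not at hc
    exact hA (Matrix.det_eq_zero_of_column_eq_zero j fun i => hz i j (hc i).symm)
  exact ⟨Equiv.ofBijective π hbij, hz, hπ, he⟩

/-- The diagonal matrices moved by a monomial matrix. -/
theorem diag_conj_of_monomial {A : Matrix (Fin 3) (Fin 3) ℂ} {π : Equiv.Perm (Fin 3)}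
    (hz : ∀ i j, j ≠ π i → A i j = 0) (d : Fin 3 → ℂ) :
    A * diagonal d = diagonal (fun i => d (π i)) * A := by
  ext i j
  rw [Matrix.mul_diagonal, Matrix.diagonal_mul]
  rcases eq_or_ne j (π i) with rfl | hj
  · ring
  · simp [hz i j hj]

theorem three_cycle_orbit (π : Equiv.Perm (Fin 3)) (h1 : π ≠ 1) (h3 : π ^ 3 = 1) :
    (π 0 = 1 ∧ π 1 = 2 ∧ π 2 = 0) ∨ (π 0 = 2 ∧ π 2 = 1 ∧ π 1 = 0) := by
  revert π
  decide

/-- A nonzero triple with zero sum or one of its simple shifts has distinct entries. -/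
theorem injective_shift (π : Equiv.Perm (Fin 3)) (h1 : π ≠ 1) (h3 : π ^ 3 = 1) (d : Fin 3 → ℂ)
    (hd : d ≠ 0) (hs : d 0 + d 1 + d 2 = 0) :
    Function.Injective d ∨ Function.Injective (fun i => d i + 2 * d (π i)) := by
  have key : ∀ f : Fin 3 → ℂ, f 0 ≠ f 1 → f 0 ≠ f 2 → f 1 ≠ f 2 → Function.Injective f := by
    intro f a b c i j hij
    fin_cases i <;> fin_cases j <;> first
      | rfl
      | exact absurd hij a
      | exact absurd hij b
      | exact absurd hij c
      | exact absurd hij a.symm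
      | exact absurd hij b.symm
      | exact absurd hij c.symm
  have hne : d 0 ≠ 0 ∨ d 1 ≠ 0 := by
    by_contra hc
    push Not at hc
    obtain ⟨a, b⟩ := hc
    refine hd (funext fun i => ?_)
    fin_cases i
    · exact a
    · exact b
    · simpa [a, b] using hs
  have h2 : d 2 = -d 0 - d 1 := by linear_combination hs
  by_cases hinj : d 0 ≠ d 1 ∧ d 0 ≠ d 2 ∧ d 1 ≠ d 2
  · exact Or.inl (key d hinj.1 hinj.2.1 hinj.2.2)
  refine Or.inr ?_
  rw [h2] at hinj
  rcases three_cycle_orbit π h1 h3 with ⟨a, b, c⟩ | ⟨a, c, b⟩ <;>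
  · refine key _ ?_ ?_ ?_ <;> simp only [a, b, c, h2] <;> intro hh <;>
      rcases hne with hn | hn <;> apply hn <;>
      simp only [not_and_or, not_not] at hinj <;>
      rcases hinj with hi | hi | hi <;> grind

/-- Diagonalisation with three distinct roots. -/
theorem exists_conj_diagonal (A : Matrix (Fin 3) (Fin 3) ℂ) (μ : Fin 3 → ℂ)
    (hμ : A.charpoly = ∏ i, (X - C (μ i))) (hinj : Function.Injective μ) :
    ∃ Q : GL (Fin 3) ℂ, A * Q.val = Q.val * diagonal μ := by
  have hv : ∀ i, ∃ v : Fin 3 → ℂ, v ≠ 0 ∧ A *ᵥ v = μ i • v := fun i => by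
    have h0 : (A.charpoly).eval (μ i) = 0 := by
      rw [hμ, Polynomial.eval_prod]
      exact Finset.prod_eq_zero (Finset.mem_univ i) (by simp)
    rw [Matrix.eval_charpoly] at h0
    obtain ⟨v, hv, hv'⟩ := Matrix.exists_mulVec_eq_zero_iff.2 h0
    refine ⟨v, hv, ?_⟩
    have hs : Matrix.scalar (Fin 3) (μ i) *ᵥ v = μ i • v := by
      ext j
      simp [Matrix.scalar_apply, Matrix.mulVec_diagonal]
    rw [Matrix.sub_mulVec, hs, sub_eq_zero] at hv'
    exact hv'.symm
  choose v hv0 hv using hv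
  have hli : LinearIndependent ℂ v :=
    Module.End.eigenvectors_linearIndependent' (Matrix.toLin' A) μ hinj v fun i =>
      ⟨Module.End.mem_eigenspace_iff.2 (by rw [Matrix.toLin'_apply, hv i]), hv0 i⟩
  let Q : Matrix (Fin 3) (Fin 3) ℂ := (Matrix.of v)ᵀ
  have hQ : IsUnit Q := Matrix.linearIndependent_cols_iff_isUnit.1 hli
  refine ⟨hQ.unit, ?_⟩
  rw [IsUnit.unit_spec]
  ext r i
  rw [Matrix.mul_diagonal]
  have := congr_fun (hv i) r
  simpa [Q, Matrix.mulVec, dotProduct, Matrix.mul_apply, mul_comm] using this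

end Cfsg.Agent.SU3Geo98.Singer
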