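import Cfsg.Agent.Lib.CharCore.Eigen
import Cfsg.Agent.SU3Geo98.Singer.Monomial

/-!
The commutant of the conjugation action of a finite subgroup of `GL (3, ℂ)` on matrices.
-/

set_option autoImplicit false

namespace Cfsg.Agent.SU3Geo98.Singer

open Matrix Module

variable {G : Type*} [Group G]

/-- Conjugation on matrices. -/
noncomputable def conjRep (ψ : G →* GL (Fin 3) ℂ) :
    Representation ℂ G (Matrix (Fin 3) (Fin 3) ℂ) where
  toFun g :=
    { toFun := fun X => (ψ g).val * X * (ψ g⁻¹).val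
      map_add' := fun X Y => by simp [Matrix.mul_add, Matrix.add_mul]
      map_smul' := fun c X => by simp }
  map_one' := LinearMap.ext fun X => by simp
  map_mul' g h := LinearMap.ext fun X => by
    simp [_root_.mul_inv_rev, Matrix.mul_assoc]

theorem conjRep_apply (ψ : G →* GL (Fin 3) ℂ) (g : G) (X : Matrix (Fin 3) (Fin 3) ℂ) :
    conjRep ψ g X = (ψ g).val * X * (ψ g⁻¹).val := rfl

theorem character_conjRep (ψ : G →* GL (Fin 3) ℂ) (g : G) :
    (conjRep ψ).character g = (ψ g).val.trace * (ψ g⁻¹).val.trace := by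
  show LinearMap.trace ℂ _ (conjRep ψ g) = _
  rw [LinearMap.trace_eq_matrix_trace ℂ (Matrix.stdBasis ℂ (Fin 3) (Fin 3)), Matrix.trace,
    Fintype.sum_prod_type, Matrix.trace, Matrix.trace, Finset.sum_mul_sum]
  refine Finset.sum_congr rfl fun i _ => Finset.sum_congr rfl fun j _ => ?_
  rw [Matrix.diag_apply, Matrix.diag_apply, Matrix.diag_apply, LinearMap.toMatrix_apply,
    Matrix.stdBasis_eq_single, conjRep_apply]
  simp [Matrix.stdBasis, Matrix.mul_apply, Matrix.single_apply, Fin.sum_univ_three]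
  fin_cases i <;> fin_cases j <;> simp

variable [Finite G]

theorem trace_inv (ψ : G →* GL (Fin 3) ℂ) (g : G) :
    (ψ g⁻¹).val.trace = (starRingEnd ℂ) (ψ g).val.trace := by
  let ρ : Representation ℂ G (Fin 3 → ℂ) :=
    ((Matrix.toLinAlgEquiv' (R := ℂ) (n := Fin 3)).toMonoidHom).comp
      ((Units.coeHom _).comp ψ)
  have h : ∀ x, ρ.character x = (ψ x).val.trace := fun x => by
    show LinearMap.trace ℂ _ (Matrix.toLin' (ψ x).val) = _
    rw [Matrix.trace_toLin'_eq]
  have := Cfsg.Agent.CharCore.character_inv ρ g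
  rwa [h, h] at this

theorem sum_normSq (ψ : G →* GL (Fin 3) ℂ) [Fintype G] :
    ∑ g : G, Complex.normSq (ψ g).val.trace ^ 2 =
      Nat.card G * finrank ℂ (Representation.linHom (conjRep ψ) (conjRep ψ)).invariants := by
  have : NeZero (Nat.card G : ℂ) := ⟨by exact_mod_cast Nat.card_pos.ne'⟩
  let _ : Invertible (Nat.card G : ℂ) := invertibleOfNonzero (NeZero.ne _)
  have h := Representation.card_inv_mul_sum_char_eq_finrank
    (Representation.linHom (conjRep ψ) (conjRep ψ))
  have hc : ∀ g : G, (Representation.linHom (conjRep ψ) (conjRep ψ)).character g =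
      ((Complex.normSq (ψ g).val.trace ^ 2 : ℝ) : ℂ) := fun g => by
    rw [Representation.char_linHom, character_conjRep, character_conjRep, inv_inv, trace_inv,
      Complex.ofReal_pow, Complex.normSq_eq_conj_mul_self]
    ring
  rw [Finset.sum_congr rfl fun g _ => hc g, inv_mul_eq_iff_eq_mul₀ (NeZero.ne _)] at h
  exact_mod_cast h

omit [Finite G] in
theorem mem_invariants (ψ : G →* GL (Fin 3) ℂ) {T}
    (h : T ∈ (Representation.linHom (conjRep ψ) (conjRep ψ)).invariants) (g : G)
    (X : Matrix (Fin 3) (Fin 3) ℂ) :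
    T ((ψ g).val * X * (ψ g⁻¹).val) = (ψ g).val * T X * (ψ g⁻¹).val := by
  have h1 := LinearMap.congr_fun (h g) ((ψ g).val * X * (ψ g⁻¹).val)
  rw [Representation.linHom_apply] at h1
  simp only [LinearMap.comp_apply, conjRep_apply] at h1
  rw [← h1]
  simp [Matrix.mul_assoc]

end Cfsg.Agent.SU3Geo98.Singer
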