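import Cfsg.Agent.MaxSub.HermStab
import Cfsg.Agent.ExtFieldMax.Elem

/-!
The cubic field subalgebra closed under adjoints: the adjoint is `x ↦ x ^ q ^ 3`, the determinant
is the norm, and the isometries of determinant one in the field are the `(q^2 - q + 1)`-th roots
of unity.
-/

set_option autoImplicit false

namespace Cfsg.Agent.SU3Geo98.Singer

open Matrix Polynomial Cfsg.Agent.MaxSub

variable {F : Type*} [Field F] [Fintype F]

/-- The standing hypotheses. -/
structure Cubic (q : ℕ) (σ : F ≃+* F) (f : (Fin 3 → F) → (Fin 3 → F) → F)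
    (K : Subalgebra F (Matrix (Fin 3) (Fin 3) F)) : Prop where
  hF : Fintype.card F = q ^ 2
  hsig : ∀ x, σ x = x ^ q
  hf : Geo.IsUnitaryForm σ f
  hK : Geo.IsFieldSubalgebra 3 K
  hac : Geo.IsAdjointClosedFor f K

variable {q : ℕ} {σ : F ≃+* F} {f : (Fin 3 → F) → (Fin 3 → F) → F}
variable {K : Subalgebra F (Matrix (Fin 3) (Fin 3) F)} (S : Cubic q σ f K)
include S

theorem Cubic.isField : IsField K := ExtFieldMax.isField_of S.hK (by norm_num)

theorem Cubic.one_lt : 1 < q := by
  have h := Fintype.one_lt_card (α := F)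
  rw [S.hF] at h
  by_contra hc
  have : q ^ 2 ≤ 1 := pow_le_one₀ (Nat.zero_le _) (by omega)
  omega

theorem Cubic.card : Nat.card K = q ^ 6 := by
  haveI : Module.Finite F K := Module.finite_of_finrank_pos (by rw [S.hK.finrank_eq]; norm_num)
  rw [Module.natCard_eq_pow_finrank (K := F), S.hK.finrank_eq, Nat.card_eq_fintype_card, S.hF,
    ← pow_mul]

/-- Every element is fixed by `x ↦ x ^ q ^ 6`. -/
theorem Cubic.pow_card (x : K) : x ^ q ^ 6 = x := by
  letI : Field K := S.isField.toField
  haveI : Fintype K := Fintype.ofFinite K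
  rw [← S.card, Nat.card_eq_fintype_card]
  exact FiniteField.pow_card x

theorem Cubic.algebraMap_pow (c : F) : (algebraMap F K c) ^ q ^ 2 = algebraMap F K c := by
  rw [← map_pow, ← S.hF, FiniteField.pow_card]

/-- `x ↦ x ^ q ^ i` is additive. -/
theorem Cubic.add_pow (i : ℕ) (x y : K) : (x + y) ^ q ^ i = x ^ q ^ i + y ^ q ^ i := by
  letI : Field K := S.isField.toField
  obtain ⟨p, hchar⟩ := CharP.exists F
  obtain ⟨n, hp, hcard⟩ := FiniteField.card F p
  haveI : Fact p.Prime := ⟨hp⟩
  haveI : CharP K p := charP_of_injective_algebraMap (algebraMap F K).injective p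
  haveI : ExpChar K p := ExpChar.prime hp
  obtain ⟨k, -, hk⟩ : ∃ k, k ≤ (n : ℕ) ∧ q = p ^ k :=
    (Nat.dvd_prime_pow hp).1 (by rw [← hcard, S.hF]; exact dvd_pow_self q two_ne_zero)
  rw [hk, ← pow_mul]
  exact add_pow_expChar_pow x y p (k * i)

theorem Cubic.sum_pow {ι : Type*} (i : ℕ) (s : Finset ι) (g : ι → K) :
    (∑ j ∈ s, g j) ^ q ^ i = ∑ j ∈ s, g j ^ q ^ i := by
  classical
  induction s using Finset.induction with
  | empty => simp [zero_pow (pow_ne_zero i (by have := S.one_lt; omega : q ≠ 0))]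
  | insert a s ha ih => rw [Finset.sum_insert ha, Finset.sum_insert ha, S.add_pow, ih]

theorem Cubic.eq_of_forall {k l : K}
    (h : ∀ x y, f x ((k : Matrix (Fin 3) (Fin 3) F) *ᵥ y) =
      f x ((l : Matrix (Fin 3) (Fin 3) F) *ᵥ y)) : k = l :=
  Subtype.ext (Matrix.ext_of_mulVec_single fun i => by
    by_contra hne
    obtain ⟨x, hx⟩ := (S.hf.nondegenerate _ (sub_ne_zero.mpr hne)).1
    exact hx (by rw [hsub_right S.hf, h, sub_self]))

/-- The fixed points of a non-trivial semilinear involution have cardinality `q ^ 3`. -/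
theorem Cubic.exists_adj : ∃ bar : K →+* K,
    (∀ (k : K) x y, f ((k : Matrix (Fin 3) (Fin 3) F) *ᵥ x) y =
      f x ((bar k : Matrix (Fin 3) (Fin 3) F) *ᵥ y)) ∧
    (∀ k, bar (bar k) = k) ∧ ∀ c, bar (algebraMap F K c) = algebraMap F K (σ c) := by
  classical
  have hadj : ∀ k : K, ∃ k' : K, ∀ x y,
      f ((k : Matrix (Fin 3) (Fin 3) F) *ᵥ x) y = f x ((k' : Matrix (Fin 3) (Fin 3) F) *ᵥ y) :=
    fun k => by
      obtain ⟨k', hk', h⟩ := S.hac k k.2
      exact ⟨⟨k', hk'⟩, h⟩
  choose b hb using hadj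
  have hswap : ∀ (k : K) x y, f x ((k : Matrix (Fin 3) (Fin 3) F) *ᵥ y) =
      f ((b k : Matrix (Fin 3) (Fin 3) F) *ᵥ x) y := fun k x y => by
    rw [S.hf.herm x, hb, ← S.hf.herm]
  have hmap : ∀ c, b (algebraMap F K c) = algebraMap F K (σ c) := fun c =>
    S.eq_of_forall fun x y => by
      rw [← hb, Subalgebra.coe_algebraMap, Subalgebra.coe_algebraMap, Algebra.algebraMap_eq_smul_one,
        Algebra.algebraMap_eq_smul_one, smul_mulVec, smul_mulVec, one_mulVec, one_mulVec,
        S.hf.smul_left, hsmul_right S.hf, S.hf.involutive]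
  refine ⟨{ toFun := b
            map_one' := ?_
            map_mul' := fun k l => S.eq_of_forall fun x y => ?_
            map_zero' := ?_
            map_add' := fun k l => S.eq_of_forall fun x y => ?_ }, hb,
    fun k => S.eq_of_forall fun x y => ?_, hmap⟩
  · simpa using hmap 1
  · rw [← hb, mul_comm' S k l]
    simp only [Subalgebra.coe_mul, ← mulVec_mulVec]
    rw [hb, hb]
  · simpa using hmap 0
  · rw [← hb]
    simp only [Subalgebra.coe_add, add_mulVec]
    rw [S.hf.add_left, hb, hb, hadd_right S.hf]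
  · show f x ((b (b k) : Matrix (Fin 3) (Fin 3) F) *ᵥ y) = _
    rw [hswap k, hb]
where
  mul_comm' (S : Cubic q σ f K) (k l : K) : k * l = l * k := S.isField.mul_comm k l

/-- The adjoint of `x` is `x ^ q ^ 3`. -/
theorem Cubic.adj (k : K) (x y : Fin 3 → F) :
    f ((k : Matrix (Fin 3) (Fin 3) F) *ᵥ x) y =
      f x (((k ^ q ^ 3 : K) : Matrix (Fin 3) (Fin 3) F) *ᵥ y) := by
  classical
  obtain ⟨bar, hbar, hbb, hbc⟩ := S.exists_adj
  suffices h : bar k = k ^ q ^ 3 by rw [hbar, h]
  letI : Field K := S.isField.toField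
  haveI : Fintype K := Fintype.ofFinite K
  obtain ⟨c₀, hc₀⟩ : ∃ c₀, σ c₀ ≠ c₀ := by
    by_contra hc
    simp only [not_exists, not_not] at hc
    exact S.hf.ne_refl (RingEquiv.ext hc)
  set c := algebraMap F K c₀ with hcdef
  have hcc : c - bar c ≠ 0 := by
    rw [hcdef, hbc, ← map_sub, _root_.map_ne_zero, sub_ne_zero]
    exact hc₀.symm
  let E : Subfield K := RingHom.eqLocusField bar (RingHom.id K)
  have hE : ∀ {x : K}, x ∈ E ↔ bar x = x := Iff.rfl
  have hcE : Nat.card E = q ^ 3 := by
    let e : E × E → K := fun a => (a.1 : K) + c * a.2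
    have hinj : Function.Injective e := by
      rintro ⟨⟨a, ha⟩, ⟨b, hb⟩⟩ ⟨⟨a', ha'⟩, ⟨b', hb'⟩⟩ h
      simp only [e] at h
      have h2 := congrArg bar h
      rw [map_add, map_add, map_mul, map_mul, hE.1 ha, hE.1 hb, hE.1 ha', hE.1 hb'] at h2
      have h3 : (c - bar c) * (b - b') = 0 := by linear_combination h - h2
      obtain rfl : b = b' := sub_eq_zero.1 ((mul_eq_zero.1 h3).resolve_left hcc)
      obtain rfl : a = a' := add_right_cancel h
      rfl
    have hsurj : Function.Surjective e := fun x => by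
      set b := (x - bar x) / (c - bar c) with hb
      have hbE : bar b = b := by
        rw [hb, map_div₀, map_sub, map_sub, hbb, hbb, ← neg_sub x, ← neg_sub c, neg_div_neg_eq]
      have haE : bar (x - c * b) = x - c * b := by
        have h3 : (c - bar c) * b = x - bar x := mul_div_cancel₀ _ hcc
        rw [map_sub, map_mul, hbE]
        linear_combination h3
      exact ⟨(⟨_, hE.2 haE⟩, ⟨_, hE.2 hbE⟩), by simp [e]⟩
    have h2 := Nat.card_eq_of_bijective e ⟨hinj, hsurj⟩
    rw [Nat.card_prod, S.card, ← sq, show q ^ 6 = (q ^ 3) ^ 2 by ring] at h2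
    exact Nat.pow_left_injective two_ne_zero h2
  have hfix : ∀ x, bar x = x → x ^ q ^ 3 = x := fun x hx => by
    haveI : Fintype E := Fintype.ofFinite E
    have := congrArg Subtype.val (FiniteField.pow_card (⟨x, hE.2 hx⟩ : E))
    rwa [← Nat.card_eq_fintype_card, hcE] at this
  by_cases hk : bar k = k
  · rw [hk, hfix k hk]
  -- the fixed points of `x ↦ x ^ q ^ 3` are exactly those of the adjoint
  have hne : k ^ q ^ 3 ≠ k := fun heq => by
    let P : Polynomial K := X ^ q ^ 3 - X
    have hq3 : 1 < q ^ 3 := Nat.one_lt_pow (by norm_num) S.one_lt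
    have hsub : insert k (Finset.univ.image fun a : E => (a : K)) ⊆ P.roots.toFinset := by
      intro y hy
      rw [Multiset.mem_toFinset, mem_roots (FiniteField.X_pow_card_sub_X_ne_zero K hq3)]
      show P.eval y = 0
      rcases Finset.mem_insert.1 hy with rfl | hy
      · simp [P, heq]
      · obtain ⟨z, -, rfl⟩ := Finset.mem_image.1 hy
        simp [P, hfix _ (hE.1 z.2)]
    have h2 := (Finset.card_le_card hsub).trans ((Multiset.toFinset_card_le _).trans P.card_roots')
    rw [Finset.card_insert_of_notMem (fun hm => by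
        obtain ⟨z, -, rfl⟩ := Finset.mem_image.1 hm
        exact hk (hE.1 z.2)),
      Finset.card_image_of_injective _ Subtype.val_injective, Finset.card_univ,
      ← Nat.card_eq_fintype_card, hcE, FiniteField.X_pow_card_sub_X_natDegree_eq K hq3] at h2
    omega
  have h1 := hfix (k + bar k) (by rw [map_add, hbb, add_comm])
  have h2 := hfix (k * bar k) (by rw [map_mul, hbb, mul_comm])
  rw [S.add_pow] at h1
  rw [mul_pow] at h2
  have h3 : (k ^ q ^ 3 - k) * (k ^ q ^ 3 - bar k) = 0 := by
    linear_combination k ^ q ^ 3 * h1 - h2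
  exact (sub_eq_zero.1 ((mul_eq_zero.1 h3).resolve_left (sub_ne_zero.2 hne))).symm

/-- The algebra generated by a non-scalar element is everything. -/
theorem Cubic.adjoin_eq_top {x : K} (hx : x ∉ Set.range (algebraMap F K)) (T : Subalgebra F K)
    (hT : x ∈ T) : T = ⊤ := by
  letI : Field K := S.isField.toField
  haveI : IsSimpleOrder (Subalgebra F K) :=
    Subalgebra.isSimpleOrder_of_finrank_prime _ _ (by rw [S.hK.finrank_eq]; exact Nat.prime_three)
  refine (IsSimpleOrder.eq_bot_or_eq_top T).resolve_left fun h => hx ?_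
  rw [h] at hT
  exact Algebra.mem_bot.1 hT

/-- A non-zero element acts injectively. -/
theorem Cubic.mulVec_ne_zero {k : K} (hk : k ≠ 0) {v : Fin 3 → F} (hv : v ≠ 0) :
    (k : Matrix (Fin 3) (Fin 3) F) *ᵥ v ≠ 0 := fun h => by
  obtain ⟨l, hl⟩ := S.isField.mul_inv_cancel hk
  apply hv
  have := congrArg (fun w => (l : Matrix (Fin 3) (Fin 3) F) *ᵥ w) h
  simpa [mulVec_mulVec, ← Subalgebra.coe_mul, S.isField.mul_comm l k, hl] using this

/-- The coordinate of the space over the field. -/
theorem Cubic.bijective_ev {v : Fin 3 → F} (hv : v ≠ 0) :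
    Function.Bijective (ExtFieldMax.ev K v) := by
  haveI : Module.Finite F K := Module.finite_of_finrank_pos (by rw [S.hK.finrank_eq]; norm_num)
  have hinj : Function.Injective (ExtFieldMax.ev K v) := (injective_iff_map_eq_zero _).2 fun k hk =>
    by_contra fun h => S.mulVec_ne_zero h hv hk
  exact ⟨hinj, (LinearMap.injective_iff_surjective_of_finrank_eq_finrank
    (by rw [S.hK.finrank_eq, Module.finrank_fin_fun])).1 hinj⟩

/-- A matrix commuting with the field lies in it. -/
theorem Cubic.mem_of_commute {h : Matrix (Fin 3) (Fin 3) F}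
    (hc : ∀ k : K, h * (k : Matrix (Fin 3) (Fin 3) F) = (k : Matrix (Fin 3) (Fin 3) F) * h) :
    h ∈ K := by
  obtain ⟨e, he⟩ := exists_ne (0 : Fin 3 → F)
  obtain ⟨k₀, hk₀⟩ := (S.bijective_ev he).2 (h *ᵥ e)
  rw [ExtFieldMax.ev_apply] at hk₀
  suffices h = (k₀ : Matrix (Fin 3) (Fin 3) F) from this ▸ k₀.2
  refine Matrix.ext_of_mulVec_single fun i => ?_
  obtain ⟨l, hl⟩ := (S.bijective_ev he).2 (Pi.single i 1)
  rw [ExtFieldMax.ev_apply] at hl
  rw [← hl, mulVec_mulVec, hc, ← mulVec_mulVec, ← hk₀, mulVec_mulVec, mulVec_mulVec,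
    S.hK.comm _ l.2 _ k₀.2]

/-- The characteristic polynomial has the Frobenius orbit as roots. -/
theorem Cubic.charpoly_map (x : K) :
    (x : Matrix (Fin 3) (Fin 3) F).charpoly.map (algebraMap F K) =
      (X - C x) * (X - C (x ^ q ^ 2)) * (X - C (x ^ q ^ 4)) := by
  classical
  letI : Field K := S.isField.toField
  haveI : Fintype K := Fintype.ofFinite K
  haveI : Module.Finite F K := Module.finite_of_finrank_pos (by rw [S.hK.finrank_eq]; norm_num)
  by_cases hx : x ∈ Set.range (algebraMap F K)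
  · obtain ⟨c, rfl⟩ := hx
    have e4 : (algebraMap F K c) ^ q ^ 4 = algebraMap F K c := by
      rw [show q ^ 4 = q ^ 2 * q ^ 2 by ring, pow_mul, S.algebraMap_pow, S.algebraMap_pow]
    rw [S.algebraMap_pow, e4, Subalgebra.coe_algebraMap, algebraMap_eq_diagonal,
      Matrix.charpoly_diagonal]
    simp [Fin.prod_univ_three]
    ring
  set χ := (x : Matrix (Fin 3) (Fin 3) F).charpoly with hχ
  have hχx : aeval x χ = 0 := Subtype.ext (by
    rw [Polynomial.aeval_subalgebra_coe, hχ, Matrix.aeval_self_charpoly]; rfl)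
  have hdeg : (minpoly F x).natDegree = 3 := by
    have h1 := minpoly.degree_dvd (Algebra.IsIntegral.isIntegral (R := F) x)
    rw [S.hK.finrank_eq] at h1
    refine ((Nat.dvd_prime Nat.prime_three).1 h1).resolve_left fun h => hx ?_
    exact RingHom.mem_range.1 ((minpoly.natDegree_eq_one_iff).1 h)
  have hint := Algebra.IsIntegral.isIntegral (R := F) x
  have hmin : χ = minpoly F x :=
    Polynomial.eq_of_monic_of_dvd_of_natDegree_le (minpoly.monic hint) (Matrix.charpoly_monic _)
      (minpoly.dvd F x hχx) (by rw [hdeg, Matrix.charpoly_natDegree_eq_dim, Fintype.card_fin])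
  have hroot : ∀ y : K, (χ.map (algebraMap F K)).eval y = 0 →
      (χ.map (algebraMap F K)).eval (y ^ q ^ 2) = 0 := fun y hy => by
    rw [eval_map, eval₂_eq_sum_range] at hy ⊢
    have h0 := congrArg (fun z : K => z ^ q ^ 2) hy
    simp only [S.sum_pow, mul_pow, S.algebraMap_pow,
      zero_pow (pow_ne_zero 2 (by have := S.one_lt; omega : q ≠ 0))] at h0
    rw [← h0]
    exact Finset.sum_congr rfl fun i _ => by rw [← pow_mul, ← pow_mul, mul_comm (q ^ 2) i, mul_comm]
  have r0 : (χ.map (algebraMap F K)).eval x = 0 := by rw [eval_map, ← aeval_def]; exact hχx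
  have r1 := hroot _ r0
  have r2 := hroot _ r1
  rw [← pow_mul, ← pow_add] at r2
  have hmove : x ^ q ^ 2 ≠ x := fun heq => hx <| by
    let P : Polynomial K := X ^ Fintype.card F - X
    have hq : 1 < Fintype.card F := Fintype.one_lt_card
    by_contra hx'
    have hsub : insert x (Finset.univ.image (algebraMap F K)) ⊆ P.roots.toFinset := by
      intro y hy
      rw [Multiset.mem_toFinset, mem_roots (FiniteField.X_pow_card_sub_X_ne_zero K hq)]
      show P.eval y = 0
      rcases Finset.mem_insert.1 hy with rfl | hy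
      · simp [P, S.hF, heq]
      · obtain ⟨z, -, rfl⟩ := Finset.mem_image.1 hy
        simp [P, ← map_pow, FiniteField.pow_card]
    have h2 := (Finset.card_le_card hsub).trans ((Multiset.toFinset_card_le _).trans P.card_roots')
    rw [Finset.card_insert_of_notMem (fun hm => by
        obtain ⟨z, -, hz⟩ := Finset.mem_image.1 hm
        exact hx' ⟨z, hz⟩), Finset.card_image_of_injective _ (algebraMap F K).injective,
      Finset.card_univ, FiniteField.X_pow_card_sub_X_natDegree_eq K hq] at h2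
    omega
  have h6 : (x ^ q ^ 4) ^ q ^ 2 = x := by rw [← pow_mul, ← pow_add]; exact S.pow_card x
  have h42 : (x ^ q ^ 2) ^ q ^ 2 = x ^ q ^ 4 := by rw [← pow_mul, ← pow_add]
  have hne : x ^ q ^ 4 ≠ x ∧ x ^ q ^ 4 ≠ x ^ q ^ 2 := by
    constructor
    · intro h
      rw [h] at h6
      exact hmove h6
    · intro h
      rw [h, h42, h] at h6
      exact hmove h6
  have hnd : ([x, x ^ q ^ 2, x ^ q ^ 4] : List K).Nodup := by
    simp [hmove.symm, hne.1.symm, hne.2.symm]
  have hle : ((↑([x, x ^ q ^ 2, x ^ q ^ 4] : List K)) : Multiset K) ≤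
      (χ.map (algebraMap F K)).roots := by
    rw [Multiset.le_iff_subset (Multiset.coe_nodup.2 hnd)]
    intro y hy
    rw [mem_roots ((Polynomial.map_ne_zero_iff (algebraMap F K).injective).2
      (Matrix.charpoly_monic _).ne_zero)]
    rcases (by simpa using hy : y = x ∨ y = x ^ q ^ 2 ∨ y = x ^ q ^ 4) with rfl | rfl | rfl
    exacts [r0, r1, r2]
  have hmon : (χ.map (algebraMap F K)).Monic := (Matrix.charpoly_monic _).map _
  have hd : (χ.map (algebraMap F K)).natDegree = 3 := by
    rw [natDegree_map, hχ, Matrix.charpoly_natDegree_eq_dim, Fintype.card_fin]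
  have heq : ((↑([x, x ^ q ^ 2, x ^ q ^ 4] : List K)) : Multiset K) =
      (χ.map (algebraMap F K)).roots := by
    refine Multiset.eq_of_le_of_card_le hle ((card_roots' _).trans ?_)
    rw [hd]; rfl
  have hroots : Multiset.card (χ.map (algebraMap F K)).roots =
      (χ.map (algebraMap F K)).natDegree := by rw [← heq, hd]; rfl
  have := prod_multiset_X_sub_C_of_monic_of_roots_card_eq hmon hroots
  rw [← heq] at this
  rw [← this]
  simp [mul_assoc]

/-- The determinant is the norm. -/
theorem Cubic.det_eq (x : K) :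
    algebraMap F K (x : Matrix (Fin 3) (Fin 3) F).det = x * x ^ q ^ 2 * x ^ q ^ 4 := by
  letI : Field K := S.isField.toField
  have h := congrArg (Polynomial.coeff · 0) (S.charpoly_map x)
  simp only [coeff_map] at h
  rw [Matrix.det_eq_sign_charpoly_coeff, map_mul, h]
  simp [Polynomial.coeff_zero_eq_eval_zero]
  ring

/-- The isometries of determinant one in the field. -/
theorem Cubic.mem_su_iff {h : GL (Fin 3) F} {x : K}
    (hx : (h : Matrix (Fin 3) (Fin 3) F) = x) :
    h ∈ HermStab.su f ↔ x ^ (q ^ 2 - q + 1) = 1 := by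
  letI : Field K := S.isField.toField
  have hqq : q ≤ q ^ 2 := Nat.le_self_pow two_ne_zero q
  have e3 : q ^ 3 + 1 = (q ^ 2 - q + 1) * (q + 1) := by
    zify [hqq]; ring
  have e4 : q ^ 4 + q ^ 2 + 1 = (q ^ 2 - q + 1) * (q ^ 2 + q + 1) := by
    zify [hqq]; ring
  have hiso : h ∈ isom f ↔ x ^ (q ^ 3 + 1) = 1 := by
    rw [mem_isom]
    have key : ∀ u v, f ((h : Matrix (Fin 3) (Fin 3) F) *ᵥ u) ((h : Matrix (Fin 3) (Fin 3) F) *ᵥ v) =
        f u (((x ^ (q ^ 3 + 1) : K) : Matrix (Fin 3) (Fin 3) F) *ᵥ v) := fun u v => by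
      rw [hx, S.adj, mulVec_mulVec, ← Subalgebra.coe_mul, ← pow_succ]
    simp only [key]
    refine ⟨fun h1 => S.eq_of_forall fun u v => ?_, fun h1 u v => ?_⟩
    · rw [h1, Subalgebra.coe_one, one_mulVec]
    · rw [h1, Subalgebra.coe_one, one_mulVec]
  have hdet : h ∈ Geo.specialLinear (Fin 3) F ↔ x ^ (q ^ 4 + q ^ 2 + 1) = 1 := by
    show Matrix.GeneralLinearGroup.det h = 1 ↔ _
    rw [← Units.val_inj, Matrix.GeneralLinearGroup.val_det_apply, hx, Units.val_one]
    constructor
    · intro h1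
      rw [pow_add, pow_add, pow_one, show x ^ q ^ 4 * x ^ q ^ 2 * x = x * x ^ q ^ 2 * x ^ q ^ 4 by ring,
        ← S.det_eq, h1, map_one]
    · intro h1
      apply (algebraMap F K).injective
      rw [S.det_eq, map_one, ← h1, pow_add, pow_add, pow_one]
      ring
  rw [HermStab.su, Subgroup.mem_inf, hiso, hdet]
  constructor
  · rintro ⟨h1, h2⟩
    rw [e3, pow_mul] at h1
    rw [e4, pow_mul] at h2
    rw [show q ^ 2 + q + 1 = q * (q + 1) + 1 by ring, pow_succ, mul_comm q, pow_mul, h1, one_pow,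
      one_mul] at h2
    exact h2
  · intro h1
    rw [e3, e4, pow_mul, pow_mul, h1, one_pow, one_pow]
    exact ⟨rfl, rfl⟩

end Cfsg.Agent.SU3Geo98.Singer
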